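import Cfsg.Agent.CharDeep.Ext.Thompson
import Cfsg.Agent.Lib.CharCore.CliffordDegree
import Cfsg.Prelude.Def_Blocks

/-! Character degrees: natural-number forms. -/

namespace Cfsg.Agent.CharDeep.Deg

universe u

variable {G : Type u} [Group G]

theorem degree_of_eq {f : G → ℂ} {n : ℕ} (h : f 1 = n) : Cfsg.charDegree f = n := by
  rw [Cfsg.charDegree, h, Complex.natCast_re, Nat.floor_natCast]

variable [Finite G]

theorem apply_one (χ : Cfsg.IrrCharacter G) :
    (χ : G → ℂ) 1 = (Cfsg.charDegree (χ : G → ℂ) : ℕ) := by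
  obtain ⟨d, -, hd⟩ := CharCore.IsIrrCharacter.exists_degree χ.2
  rw [degree_of_eq hd, hd]

theorem degree_pos (χ : Cfsg.IrrCharacter G) : 0 < Cfsg.charDegree (χ : G → ℂ) := by
  obtain ⟨d, hd0, hd⟩ := CharCore.IsIrrCharacter.exists_degree χ.2
  rwa [degree_of_eq hd]

/-- Itô's theorem in terms of `charDegree`. -/
theorem degree_dvd_index (χ : Cfsg.IrrCharacter G) (A : Subgroup G) [A.Normal]
    (hA : ∀ a ∈ A, ∀ b ∈ A, a * b = b * a) : Cfsg.charDegree (χ : G → ℂ) ∣ A.index := by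
  obtain ⟨n, ρ, hρ, hchar⟩ := χ.2
  have h : (χ : G → ℂ) 1 = (Module.finrank ℂ (Fin n → ℂ) : ℕ) := by
    rw [← hchar, Representation.char_one]
  rw [degree_of_eq h]
  exact Cfsg.Agent.S0169.result ρ A hA

theorem commute_of_degree_one (h : ∀ χ : Cfsg.IrrCharacter G, Cfsg.charDegree (χ : G → ℂ) = 1)
    (a b : G) : a * b = b * a :=
  Ext.commute_of_forall_linear (fun χ => by rw [apply_one χ, h χ, Nat.cast_one]) a b

/-- The degree of a constituent of the restriction to a normal subgroup divides the degree. -/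
theorem exists_dvd_of_normal (N : Subgroup G) [N.Normal] (θ : Cfsg.IrrCharacter N) :
    ∃ χ : Cfsg.IrrCharacter G, Cfsg.charDegree (θ : N → ℂ) ∣ Cfsg.charDegree (χ : G → ℂ) := by
  classical
  have := Fintype.ofFinite G
  have := Fintype.ofFinite N
  obtain ⟨χ, hχ⟩ := CharCore.exists_over N θ
  exact ⟨χ, Ext.dvd_degree_of_constituent N θ.2 χ.2 (apply_one θ) (apply_one χ) hχ⟩

/-- Inflation of a character of a quotient. -/
theorem exists_inflate (N : Subgroup G) [N.Normal] (θ : Cfsg.IrrCharacter (G ⧸ N)) :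
    ∃ χ : Cfsg.IrrCharacter G, Cfsg.charDegree (χ : G → ℂ) = Cfsg.charDegree (θ : G ⧸ N → ℂ) ∧
      ∀ g : G, (χ : G → ℂ) g = (θ : G ⧸ N → ℂ) (QuotientGroup.mk' N g) :=
  ⟨⟨fun g => (θ : G ⧸ N → ℂ) (QuotientGroup.mk' N g),
    CharCore.isIrrCharacter_comp_surjective θ.2 _ (QuotientGroup.mk'_surjective N)⟩,
    degree_of_eq (by simp only [map_one]; exact apply_one θ), fun _ => rfl⟩

end Cfsg.Agent.CharDeep.Deg
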