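import Cfsg.Agent.CharDeep.Deg.Supplement
import Cfsg.Agent.CharDeep.TIFrob.Kernel
import Cfsg.Agent.S4456

/-! Groups with two character degrees. -/

namespace Cfsg.Agent.CharDeep.Deg

open scoped ComplexConjugate

universe u

variable {G : Type u} [Group G] [Fintype G]

theorem apply_eq_of_mem_commutator (χ : Cfsg.IrrCharacter G)
    (h : Cfsg.charDegree (χ : G → ℂ) = 1) {g : G} (hg : g ∈ commutator G) :
    (χ : G → ℂ) g = (χ : G → ℂ) 1 := by
  obtain ⟨f, hf⟩ := CharCore.IsCharacter.exists_hom_of_degree_one (CharCore.irr_isCharacter χ)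
    (by rw [apply_one χ, h, Nat.cast_one])
  rw [hf]
  have h1 : f g = 1 := Abelianization.commutator_subset_ker f hg
  simp [h1]

theorem exists_constituent {f : G → ℂ} (hf : Cfsg.IsCharacter G f) (h1 : f 1 ≠ 0) :
    ∃ χ : Cfsg.IrrCharacter G, Cfsg.classInner f (χ : G → ℂ) ≠ 0 := by
  by_contra! h
  apply h1
  rw [CharCore.IsCharacter.eq_sum_classInner hf]
  simp [h]

theorem degree_le_of_constituent {f : G → ℂ} (hf : Cfsg.IsCharacter G f) {d : ℕ} (hd : f 1 = d)
    (χ : Cfsg.IrrCharacter G) (h : Cfsg.classInner f (χ : G → ℂ) ≠ 0) :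
    Cfsg.charDegree (χ : G → ℂ) ≤ d := by
  rcases eq_or_degree_lt hf χ h (apply_one χ) hd with h' | h'
  · rw [h', apply_one χ] at hd
    exact le_of_eq (Nat.cast_injective hd)
  · exact h'.le

theorem exists_over_subgroup (T : Subgroup G) [Fintype T] (φ : Cfsg.IrrCharacter T) :
    ∃ χ : Cfsg.IrrCharacter G, Cfsg.classInner (fun x : T => (χ : G → ℂ) x) φ ≠ 0 ∧
      Cfsg.classInner (Cfsg.indFun T (φ : T → ℂ)) (χ : G → ℂ) ≠ 0 := by
  obtain ⟨χ, hχ⟩ := exists_constituent (CharInd.isCharacter_indFun T (CharCore.irr_isCharacter φ))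
    (by
      rw [CharInd.indFun_apply_one]
      exact mul_ne_zero (Nat.cast_ne_zero.mpr Subgroup.index_ne_zero_of_finite)
        (CharCore.irr_apply_one_ne_zero φ))
  refine ⟨χ, fun h0 => hχ ?_, hχ⟩
  rw [← CharCore.conj_classInner, CharInd.classInner_indFun_right T _
    (CharCore.irr_isClassFunction χ), h0, map_zero]

theorem inner_ne_zero_trans (B T : Subgroup G) [Fintype B] [Fintype T] (hBT : B ≤ T) {f : G → ℂ}
    (hf : Cfsg.IsCharacter G f) (φ : Cfsg.IrrCharacter T) (l : Cfsg.IrrCharacter B)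
    (h1 : Cfsg.classInner (fun x : T => f x) φ ≠ 0)
    (h2 : Cfsg.classInner (fun b : B => (φ : T → ℂ) ⟨b, hBT b.2⟩) l ≠ 0) :
    Cfsg.classInner (fun b : B => f b) l ≠ 0 := by
  classical
  obtain ⟨a, ha⟩ := CharCore.IsCharacter.exists_sum (CharCore.isCharacter_restrict hf T)
  choose k hk using fun ψ : Cfsg.IrrCharacter T =>
    CharCore.IsCharacter.exists_classInner_irr_eq_natCast
      (CharCore.isCharacter_comp (CharCore.irr_isCharacter ψ) (Subgroup.inclusion hBT)) l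
  have hres : (fun b : B => f b) =
      ∑ ψ : Cfsg.IrrCharacter T, (a ψ : ℂ) • (fun b : B => (ψ : T → ℂ) ⟨b, hBT b.2⟩) := by
    funext b
    have h := congrFun ha ⟨b, hBT b.2⟩
    simp only [Finset.sum_apply, Pi.smul_apply] at h ⊢
    exact h
  intro h0
  rw [hres, CharCore.classInner_sum_left] at h0
  simp only [CharCore.classInner_smul_left] at h0
  have hk' : ∀ ψ : Cfsg.IrrCharacter T,
      Cfsg.classInner (fun b : B => (ψ : T → ℂ) ⟨b, hBT b.2⟩) l = k ψ := hk
  simp only [hk'] at h0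
  have h3 : ∑ ψ, a ψ * k ψ = 0 := by exact_mod_cast h0
  rcases mul_eq_zero.mp (Finset.sum_eq_zero_iff.mp h3 φ (Finset.mem_univ _)) with h | h
  · exact h1 (by rw [ha, CharCore.classInner_sum_all, h, Nat.cast_zero])
  · exact h2 (by rw [hk', h, Nat.cast_zero])

section TwoDegrees

variable {m : ℕ} (hcd : ∀ χ : Cfsg.IrrCharacter G,
  Cfsg.charDegree (χ : G → ℂ) = 1 ∨ Cfsg.charDegree (χ : G → ℂ) = m)

include hcd in
/-- Taketa's argument. -/
theorem commutator_le_of_index (H : Subgroup G) (hH : H.index = m) : commutator G ≤ H := by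
  classical
  have := Fintype.ofFinite H
  intro g hg
  have hπ := CharInd.isCharacter_indFun H (CharCore.isCharacter_one (G := H))
  have hπ1 : Cfsg.indFun H (1 : H → ℂ) 1 = (m : ℂ) := by
    rw [CharInd.indFun_apply_one, hH, Pi.one_apply, mul_one]
  have hone : Cfsg.classInner (Cfsg.indFun H (1 : H → ℂ)) (1 : G → ℂ) = 1 := by
    rw [CharInd.classInner_indFun_left H _ (fun _ _ => rfl)]
    exact CharCore.classInner_irr_self ⟨1, CharCore.isIrrCharacter_one⟩
  obtain ⟨a, ha⟩ := CharCore.IsCharacter.exists_sum hπ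
  have hsum : m = ∑ ψ, a ψ * Cfsg.charDegree (ψ : G → ℂ) := by
    have h := congrFun ha 1
    simp only [Finset.sum_apply, Pi.smul_apply, smul_eq_mul, apply_one, hπ1] at h
    exact_mod_cast h
  let o : Cfsg.IrrCharacter G := ⟨1, CharCore.isIrrCharacter_one⟩
  have ha1 : a o = 1 := by
    rw [ha] at hone
    have h := CharCore.classInner_sum_all (fun ψ => (a ψ : ℂ)) o
    exact_mod_cast h.symm.trans hone
  have ho : Cfsg.charDegree (o : G → ℂ) = 1 := degree_of_eq (n := 1) (by simp [o])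
  have hlin : ∀ ψ, a ψ ≠ 0 → Cfsg.charDegree (ψ : G → ℂ) = 1 := by
    intro ψ hψ
    by_cases hψo : ψ = o
    · rw [hψo, ho]
    rcases hcd ψ with h | h
    · exact h
    exfalso
    have h2 : a ψ * Cfsg.charDegree (ψ : G → ℂ) + a o * Cfsg.charDegree (o : G → ℂ) ≤ m := by
      rw [hsum, ← Finset.sum_pair hψo (f := fun χ => a χ * Cfsg.charDegree (χ : G → ℂ))]
      exact Finset.sum_le_sum_of_subset (Finset.subset_univ _)
    rw [ha1, ho, h] at h2
    have : m ≤ a ψ * m := Nat.le_mul_of_pos_left m (Nat.pos_of_ne_zero hψ)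
    omega
  have hval : Cfsg.indFun H (1 : H → ℂ) g = Cfsg.indFun H (1 : H → ℂ) 1 := by
    rw [ha]
    simp only [Finset.sum_apply, Pi.smul_apply, smul_eq_mul]
    refine Finset.sum_congr rfl fun ψ _ => ?_
    by_cases h : a ψ = 0
    · rw [h, Nat.cast_zero, zero_mul, zero_mul]
    · rw [apply_eq_of_mem_commutator ψ (hlin ψ h) hg]
  rw [hπ1, ← hH, CharInd.indFun_apply] at hval
  have hterm : ∀ y : G, Cfsg.extendByZero H (1 : H → ℂ) (y⁻¹ * g * y) =
      if y⁻¹ * g * y ∈ H then 1 else 0 := by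
    intro y
    split_ifs with hy
    · rw [CharInd.extendByZero_mem _ hy]; rfl
    · exact CharInd.extendByZero_notMem _ hy
  simp only [hterm, Finset.sum_boole] at hval
  rw [inv_mul_eq_iff_eq_mul₀ (CharInd.natCard_subgroup_ne_zero H), ← Nat.cast_mul,
    mul_comm, H.index_mul_card, Nat.cast_inj, Nat.card_eq_fintype_card, ← Finset.card_univ] at hval
  have h := Finset.card_filter_eq_iff.mp hval 1 (Finset.mem_univ _)
  simpa using h

/-- The stabilizer of a linear character of a normal subgroup. -/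
def stab (B : Subgroup G) [B.Normal] (l : B →* ℂˣ) : Subgroup G :=
  Ext.inertia B fun b => (l b : ℂ)

theorem mem_stab {B : Subgroup G} [hB : B.Normal] {l : B →* ℂˣ} {g : G} :
    g ∈ stab B l ↔ ∀ b : B, l (MulAut.conjNormal g b) = l b := by
  constructor
  · intro h b
    rw [show MulAut.conjNormal g b = (⟨g * b * g⁻¹, hB.conj_mem (b : G) b.2 g⟩ : B) from
      Subtype.ext (MulAut.conjNormal_apply g b)]
    exact Units.ext (congrFun h b)
  · intro h
    funext b
    simp only [Ext.conjFn, ← h b]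
    exact congrArg (fun z => (l z : ℂ)) (Subtype.ext (MulAut.conjNormal_apply g b).symm)

variable (B : Subgroup G) [hBn : B.Normal] (hab : ∀ a ∈ B, ∀ b ∈ B, a * b = b * a)
  (hcop : Nat.Coprime (Nat.card B) B.index)

include hab in
theorem le_stab (l : B →* ℂˣ) : B ≤ stab B l := fun x hx => mem_stab.mpr fun b => congrArg l
  (Subtype.ext (by rw [MulAut.conjNormal_apply, hab x hx b b.2, mul_inv_cancel_right]))

include hcd hab hcop in
theorem index_stab [Fintype B] (l : B →* ℂˣ) (h : stab B l ≠ ⊤) :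
    (stab B l).index = m ∧ commutator G ≤ stab B l ∧
      ∀ φ : Cfsg.IrrCharacter (stab B l),
        Cfsg.classInner (fun b : B => (φ : stab B l → ℂ) ⟨b, le_stab B hab l b.2⟩)
          (fun b => (l b : ℂ)) ≠ 0 → (φ : stab B l → ℂ) 1 = 1 := by
  classical
  have := Fintype.ofFinite (stab B l)
  have hTdef : ∀ g : G, g ∈ stab B l ↔ ∀ n : B,
      (l ⟨g * n * g⁻¹, hBn.conj_mem (n : G) n.2 g⟩ : ℂ) = (l n : ℂ) := fun g =>
    ⟨fun hg n => congrFun hg n, fun hg => funext hg⟩
  have hBT := le_stab B hab l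
  have hidx1 : 2 ≤ (stab B l).index := by
    have h1 : (stab B l).index ≠ 1 := fun e => h (Subgroup.index_eq_one.mp e)
    have h2 : (stab B l).index ≠ 0 := Subgroup.index_ne_zero_of_finite
    omega
  have key : ∀ φ : Cfsg.IrrCharacter (stab B l),
      Cfsg.classInner (fun b : B => (φ : stab B l → ℂ) ⟨b, hBT b.2⟩) (fun b => (l b : ℂ)) ≠ 0 →
      ∃ χ : Cfsg.IrrCharacter G, ∃ ψ : Cfsg.IrrCharacter (stab B l),
        Cfsg.indFun (stab B l) (ψ : stab B l → ℂ) = χ ∧
        Cfsg.charDegree (χ : G → ℂ) = (stab B l).index * Cfsg.charDegree (ψ : stab B l → ℂ) ∧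
        Cfsg.classInner (fun x : stab B l => (χ : G → ℂ) x) φ ≠ 0 ∧
        Cfsg.classInner (Cfsg.indFun (stab B l) (φ : stab B l → ℂ)) (χ : G → ℂ) ≠ 0 := by
    intro φ hφ
    obtain ⟨χ, hχ1, hχ2⟩ := exists_over_subgroup _ φ
    obtain ⟨ψ, hψ, hind, -⟩ := Ext.exists_inertia_induced B (CharCore.isIrrCharacter_hom l)
      (stab B l) hTdef hBT χ.2 (inner_ne_zero_trans B _ hBT (CharCore.irr_isCharacter χ) φ
        ⟨_, CharCore.isIrrCharacter_hom l⟩ hχ1 hφ)
    refine ⟨χ, ⟨ψ, hψ⟩, hind, degree_of_eq ?_, hχ1, hχ2⟩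
    rw [← hind, CharInd.indFun_apply_one, Nat.cast_mul]
    exact congrArg _ (apply_one ⟨ψ, hψ⟩)
  -- a linear extension of `l` to the stabilizer
  obtain ⟨μ, hμ⟩ : ∃ μ : stab B l →* ℂˣ, ∀ b : B, μ ⟨b, hBT b.2⟩ = l b := by
    obtain ⟨μ, ⟨hμ, -⟩, -⟩ := Ext.exists_unique_extend_coprime (N := B.subgroupOf (stab B l))
      (l.comp (Subgroup.subgroupOfEquivOfLe hBT).toMonoidHom)
      (fun g n => by
        have h1 := mem_stab.mp g.2 (Subgroup.subgroupOfEquivOfLe hBT n)
        simp only [MonoidHom.comp_apply, MulEquiv.coe_toMonoidHom]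
        rw [← h1]
        refine congrArg l (Subtype.ext ?_)
        rw [MulAut.conjNormal_apply]
        rfl)
      (Nat.Coprime.coprime_dvd_right (orderOf_dvd_of_pow_eq_one (n := Nat.card B) (by
          refine MonoidHom.ext fun n => ?_
          rw [MonoidHom.pow_apply, ← map_pow, MonoidHom.comp_apply, map_pow,
            pow_card_eq_one', map_one, MonoidHom.one_apply]))
        (Nat.Coprime.coprime_dvd_left (Dvd.intro _ (Subgroup.relIndex_mul_index hBT))
          hcop.symm))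
    exact ⟨μ, fun b => hμ ⟨⟨b, hBT b.2⟩, Subgroup.mem_subgroupOf.mpr b.2⟩⟩
  have hμover : Cfsg.classInner (fun b : B => (μ ⟨b, hBT b.2⟩ : ℂ)) (fun b => (l b : ℂ)) ≠ 0 := by
    simp only [hμ]
    rw [show Cfsg.classInner (fun b => (l b : ℂ)) (fun b => (l b : ℂ)) = 1 from
      CharCore.classInner_irr_self ⟨_, CharCore.isIrrCharacter_hom l⟩]
    exact one_ne_zero
  obtain ⟨χ, ψ, hind, hdeg, -, hχ2⟩ := key ⟨_, CharCore.isIrrCharacter_hom μ⟩ hμover
  have hle := degree_le_of_constituent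
    (CharInd.isCharacter_indFun _ (CharCore.IsIrrCharacter.isCharacter (CharCore.isIrrCharacter_hom μ)))
    (d := (stab B l).index) (by rw [CharInd.indFun_apply_one]; simp) χ hχ2
  have hψpos := degree_pos ψ
  have hge : (stab B l).index ≤ Cfsg.charDegree (χ : G → ℂ) := hdeg ▸ Nat.le_mul_of_pos_right _ hψpos
  have hχm : Cfsg.charDegree (χ : G → ℂ) = m := (hcd χ).resolve_left (by omega)
  have hidx : (stab B l).index = m := by omega
  have hle' := commutator_le_of_index hcd (stab B l) hidx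
  refine ⟨hidx, hle', fun φ hφ => ?_⟩
  haveI : (stab B l).Normal := ⟨fun n hn g => by
    have h1 : g * n * g⁻¹ * n⁻¹ ∈ commutator G :=
      Subgroup.commutator_mem_commutator (Subgroup.mem_top g) (Subgroup.mem_top n)
    have h2 := (stab B l).mul_mem (hle' h1) hn
    simpa using h2⟩
  obtain ⟨χ', ψ', hind', hdeg', hχ1', -⟩ := key φ hφ
  have hψ1 : Cfsg.charDegree (ψ' : stab B l → ℂ) = 1 := by
    have hp := degree_pos ψ'
    rcases hcd χ' with h1 | h1
    · have := Nat.le_mul_of_pos_right (stab B l).index hp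
      omega
    · rw [h1] at hdeg'
      nth_rw 1 [← hidx] at hdeg'
      exact (Nat.eq_of_mul_eq_mul_left (by omega) ((mul_one _).trans hdeg')).symm
  have hne : Cfsg.classInner (fun x : stab B l => (χ' : G → ℂ) x) ψ' ≠ 0 := by
    rw [← CharInd.classInner_indFun_right _ _ (CharCore.irr_isClassFunction χ'), hind',
      CharCore.classInner_irr_self]
    exact one_ne_zero
  obtain ⟨x, hx⟩ := Ext.exists_conjFn_eq (stab B l) ψ'.2 φ.2 χ'.2 hne hχ1'
  rw [← hx]
  show (ψ' : stab B l → ℂ) ⟨x * (1 : stab B l) * x⁻¹, _⟩ = 1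
  rw [show (⟨x * (1 : stab B l) * x⁻¹, _⟩ : stab B l) = 1 from Subtype.ext (by simp),
    apply_one ψ', hψ1, Nat.cast_one]

include hcd hab hcop in
theorem centralizes [Fintype B] (l₁ : B →* ℂˣ) (h₁ : stab B l₁ ≠ ⊤) :
    ∀ t ∈ stab B l₁, ∀ b ∈ B, t * b = b * t := by
  classical
  obtain ⟨hidx, hder, -⟩ := index_stab hcd B hab hcop l₁ h₁
  haveI : (stab B l₁).Normal := ⟨fun n hn g => by
    have h1 : g * n * g⁻¹ * n⁻¹ ∈ commutator G :=
      Subgroup.commutator_mem_commutator (Subgroup.mem_top g) (Subgroup.mem_top n)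
    have h2 := (stab B l₁).mul_mem (hder h1) hn
    simpa using h2⟩
  let c : stab B l₁ →* MulAut B := (MulAut.conjNormal (H := B)).comp (stab B l₁).subtype
  let S : Subgroup (MulAut B) := c.range
  haveI : Finite S := Finite.of_surjective c.rangeRestrict c.rangeRestrict_surjective
  have := Fintype.ofFinite S
  have hScop : Nat.Coprime (Nat.card B) (Nat.card S) := by
    refine hcop.coprime_dvd_right ((?_ : Nat.card S ∣ B.relIndex (stab B l₁)).trans
      (Dvd.intro _ (Subgroup.relIndex_mul_index (le_stab B hab l₁))))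
    rw [show Nat.card S = c.ker.index from (Subgroup.index_ker c).symm]
    refine Subgroup.index_dvd_of_le fun x hx => ?_
    rw [MonoidHom.mem_ker]
    refine MulEquiv.ext fun b => Subtype.ext ?_
    show ((MulAut.conjNormal (x : G) b : B) : G) = b
    rw [MulAut.conjNormal_apply, hab x (Subgroup.mem_subgroupOf.mp hx) b b.2, mul_inv_cancel_right]
  have hcop' : ∀ (z : ℂˣ), z ^ Nat.card S = 1 → z ^ Nat.card B = 1 → z = 1 := fun z h1 h2 => by
    have h3 := pow_gcd_eq_one.mpr ⟨h2, h1⟩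
    rwa [hScop.gcd_eq_one, pow_one] at h3
  have hpowB : ∀ (l : B →* ℂˣ) (b : B), l b ^ Nat.card B = 1 := fun l b => by
    rw [← map_pow, pow_card_eq_one', map_one]
  have hl1 : ∀ (σ : S) (b : B), l₁ (σ.1 b) = l₁ b := by
    rintro ⟨_, t, rfl⟩ b
    exact mem_stab.mp t.2 b
  intro t ht b hb
  suffices hall : ∀ l : B →* ℂˣ, l (MulAut.conjNormal t ⟨b, hb⟩) = l ⟨b, hb⟩ by
    have h2 : MulAut.conjNormal t (⟨b, hb⟩ : B) * (⟨b, hb⟩ : B)⁻¹ = 1 := by
      refine Ext.eq_one_of_forall_irr fun θ => ?_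
      obtain ⟨d, -, hd, -, hd1⟩ := TIFrob.exists_degree_dvd θ
      rw [hd1 (fun x y => Subtype.ext (hab x x.2 y y.2)), Nat.cast_one] at hd
      obtain ⟨f, hf⟩ := CharCore.IsCharacter.exists_hom_of_degree_one (CharCore.irr_isCharacter θ) hd
      simp [hf, hall f]
    have h3 := congrArg Subtype.val (mul_inv_eq_one.mp h2)
    rw [MulAut.conjNormal_apply, mul_inv_eq_iff_eq_mul] at h3
    exact h3
  intro l
  let σ₀ : S := ⟨c ⟨t, ht⟩, ⟨⟨t, ht⟩, rfl⟩⟩
  let μ : B →* ℂˣ := l.comp σ₀.1.toMonoidHom * l⁻¹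
  have hμapply : ∀ x, μ x = l (σ₀.1 x) * (l x)⁻¹ := fun x => rfl
  let φ : B →* ℂˣ := l₁ * μ
  have hNμ : ∀ x : B, ∏ σ : S, μ (σ.1 x) = 1 := by
    intro x
    simp only [hμapply, Finset.prod_mul_distrib, Finset.prod_inv_distrib, mul_inv_eq_one]
    exact Fintype.prod_equiv (Equiv.mulLeft σ₀) _ _ fun σ => rfl
  have hNφ : ∀ x : B, ∏ σ : S, φ (σ.1 x) = l₁ x ^ Nat.card S := by
    intro x
    simp only [φ, MonoidHom.mul_apply, Finset.prod_mul_distrib, hNμ, mul_one, hl1,
      Finset.prod_const, Finset.card_univ, Nat.card_eq_fintype_card]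
  have hle : stab B φ ≤ stab B l₁ := by
    intro h hh
    rw [mem_stab]
    intro x
    let cc : MulAut B := MulAut.conjNormal h
    have hconj : ∀ σ : S, cc⁻¹ * σ.1 * cc ∈ S := by
      rintro ⟨_, s, rfl⟩
      refine ⟨⟨h⁻¹ * s * h, by
        simpa using Subgroup.Normal.conj_mem inferInstance (s : G) s.2 h⁻¹⟩, ?_⟩
      show MulAut.conjNormal (h⁻¹ * (s : G) * h) = _
      rw [map_mul, map_mul, map_inv]
      rfl
    let e : S ≃ S := Equiv.ofBijective (fun σ => ⟨cc⁻¹ * σ.1 * cc, hconj σ⟩)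
      (Finite.injective_iff_bijective.mp fun a b hab' => Subtype.ext
        (mul_left_cancel (mul_right_cancel (congrArg Subtype.val hab'))))
    have h1 : ∏ σ : S, φ (σ.1 (cc x)) = ∏ σ : S, φ (σ.1 x) := by
      refine Fintype.prod_equiv e _ _ fun σ => ?_
      show φ (σ.1 (cc x)) = φ ((cc⁻¹ * σ.1 * cc) x)
      rw [← mem_stab.mp hh ((cc⁻¹ * σ.1 * cc) x)]
      congr 1
      show σ.1 (cc x) = cc (cc⁻¹ (σ.1 (cc x)))
      exact (MulEquiv.apply_symm_apply cc _).symm
    rw [hNφ, hNφ] at h1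
    refine mul_inv_eq_one.mp (hcop' _ ?_ ?_)
    · rw [mul_pow, inv_pow, mul_inv_eq_one]; exact h1
    · rw [mul_pow, inv_pow, hpowB, hpowB, inv_one, mul_one]
  have hφ : stab B φ ≠ ⊤ := fun e => h₁ (top_le_iff.mp (e ▸ hle))
  obtain ⟨hidxφ, -, -⟩ := index_stab hcd B hab hcop φ hφ
  have heq : stab B φ = stab B l₁ := by
    refine le_antisymm hle (Subgroup.relIndex_eq_one.mp ?_)
    have h1 := Subgroup.relIndex_mul_index hle
    rw [hidxφ, hidx] at h1
    exact (mul_eq_right₀ (hidx ▸ Subgroup.index_ne_zero_of_finite)).mp h1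
  have hfix : ∀ (σ : S) (x : B), μ (σ.1 x) = μ x := by
    rintro ⟨_, s, rfl⟩ x
    have h1 := mem_stab.mp (heq.symm ▸ s.2 : (s : G) ∈ stab B φ) x
    have h2 := mem_stab.mp s.2 x
    simp only [φ, MonoidHom.mul_apply, h2] at h1
    exact mul_left_cancel h1
  have h1 : μ ⟨b, hb⟩ ^ Nat.card S = 1 := by
    rw [← hNμ ⟨b, hb⟩]
    simp only [hfix, Finset.prod_const, Finset.card_univ, Nat.card_eq_fintype_card]
  exact mul_inv_eq_one.mp (hcop' _ h1 (hpowB μ _))

include hcd hab hcop in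
/-- A stabilizer of a linear character which is not all of the group is abelian of index `m`. -/
theorem exists_abelian_index [Fintype B] (l₁ : B →* ℂˣ) (h₁ : stab B l₁ ≠ ⊤) :
    ∃ A : Subgroup G, A.Normal ∧ (∀ a ∈ A, ∀ b ∈ A, a * b = b * a) ∧ A.index = m ∧
      commutator G ≤ A := by
  classical
  obtain ⟨hidx, hder, hlin⟩ := index_stab hcd B hab hcop l₁ h₁
  have hcent := centralizes hcd B hab hcop l₁ h₁
  have hBT := le_stab B hab l₁
  refine ⟨stab B l₁, ⟨fun n hn g => ?_⟩, fun a ha b hb => ?_, hidx, hder⟩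
  · have h1 : g * n * g⁻¹ * n⁻¹ ∈ commutator G :=
      Subgroup.commutator_mem_commutator (Subgroup.mem_top g) (Subgroup.mem_top n)
    have h2 := (stab B l₁).mul_mem (hder h1) hn
    simpa using h2
  have := Fintype.ofFinite (stab B l₁)
  refine congrArg Subtype.val (Ext.commute_of_forall_linear (G := stab B l₁) (fun θ => ?_)
    ⟨a, ha⟩ ⟨b, hb⟩)
  obtain ⟨lam, hlam⟩ := exists_constituent
    (CharCore.isCharacter_comp (CharCore.irr_isCharacter θ) (Subgroup.inclusion hBT))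
    (by simpa using CharCore.irr_apply_one_ne_zero θ)
  obtain ⟨d, -, hd, -, hd1⟩ := TIFrob.exists_degree_dvd lam
  rw [hd1 (fun x y => Subtype.ext (hab x x.2 y y.2)), Nat.cast_one] at hd
  obtain ⟨f, hf⟩ := CharCore.IsCharacter.exists_hom_of_degree_one (CharCore.irr_isCharacter lam) hd
  obtain ⟨μ, ⟨hμ, -⟩, -⟩ := Ext.exists_unique_extend_coprime (N := B.subgroupOf (stab B l₁))
    ((l₁ * f⁻¹).comp (Subgroup.subgroupOfEquivOfLe hBT).toMonoidHom)
    (fun g n => congrArg (l₁ * f⁻¹) (congrArg (Subgroup.subgroupOfEquivOfLe hBT)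
      (Subtype.ext (Subtype.ext (by
        simp only [Subgroup.coe_mul, InvMemClass.coe_inv]
        rw [hcent g g.2 _ (Subgroup.mem_subgroupOf.mp n.2), mul_inv_cancel_right])))))
    (Nat.Coprime.coprime_dvd_right (orderOf_dvd_of_pow_eq_one (n := Nat.card B) (by
        refine MonoidHom.ext fun n => ?_
        rw [MonoidHom.pow_apply, ← map_pow, MonoidHom.comp_apply, map_pow, pow_card_eq_one',
          map_one, MonoidHom.one_apply]))
      (Nat.Coprime.coprime_dvd_left (Dvd.intro _ (Subgroup.relIndex_mul_index hBT))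
        hcop.symm))
  have h := hlin ⟨_, CharCore.isIrrCharacter_hom_mul μ θ.2⟩ ?_
  · simpa using h
  · intro h0
    apply hlam
    rw [← h0]
    simp only [CharCore.classInner_def, hf]
    congr 1
    refine Finset.sum_congr rfl fun x _ => ?_
    have hμx : (μ ⟨x, hBT x.2⟩ : ℂ) = (l₁ x : ℂ) * (f x : ℂ)⁻¹ := by
      rw [hμ ⟨⟨x, hBT x.2⟩, Subgroup.mem_subgroupOf.mpr x.2⟩]
      show (((l₁ * f⁻¹) x : ℂˣ) : ℂ) = _
      simp
    have hl : (l₁ x : ℂ) * conj (l₁ x : ℂ) = 1 := by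
      rw [Complex.mul_conj, Complex.normSq_eq_norm_sq, CharCore.norm_hom_apply]; simp
    have hfx : conj (f x : ℂ) = (f x : ℂ)⁻¹ := by
      rw [Complex.inv_eq_conj (CharCore.norm_hom_apply f x)]
    simp only [hμx, hfx, Subgroup.inclusion]
    calc _ = ((l₁ x : ℂ) * conj (l₁ x : ℂ)) * ((θ : stab B l₁ → ℂ) ⟨x, hBT x.2⟩ * (f x : ℂ)⁻¹) := by
          rw [hl, one_mul]; rfl
      _ = _ := by ring

end TwoDegrees

end Cfsg.Agent.CharDeep.Deg
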