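import Cfsg.Agent.CharDeep.Deg.Basic
import Mathlib.GroupTheory.Sylow

/-! A solvable group with all degrees prime to `p` has a normal abelian Sylow `p`-subgroup. -/

namespace Cfsg.Agent.CharDeep.Deg

universe u

theorem exists_abelian_sylow_aux (p : ℕ) [hp : Fact p.Prime] :
    ∀ (j : ℕ) {G : Type u} [Group G] [Finite G], Nat.card G ≤ j → Group.IsSolvable G →
      (∀ χ : Cfsg.IrrCharacter G, ¬ p ∣ Cfsg.charDegree (χ : G → ℂ)) →
      ∃ P : Subgroup G, P.Normal ∧ (∀ x ∈ P, ∀ y ∈ P, x * y = y * x) ∧ IsPGroup p P ∧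
        ¬ p ∣ P.index := by
  intro j
  induction j with
  | zero => intro G _ _ h; exact absurd h (not_le_of_gt Nat.card_pos)
  | succ j ih =>
    intro G _ _ hj hsolv hdeg
    classical
    by_cases hab : ∀ a b : G, a * b = b * a
    · obtain ⟨P⟩ := (Sylow.nonempty : Nonempty (Sylow p G))
      exact ⟨P, ⟨fun n hn g => by rw [hab g n, mul_inv_cancel_right]; exact hn⟩,
        fun x _ y _ => hab x y, P.isPGroup', P.not_dvd_index'
          (fun h => Subgroup.index_ne_zero_of_finite h)⟩
    obtain ⟨n, hn⟩ := (Group.isSolvable_def G).mp hsolv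
    have hex : ∃ n, derivedSeries G n = ⊥ := ⟨n, hn⟩
    obtain ⟨m, hm⟩ : ∃ m, Nat.find hex = m + 1 := by
      refine Nat.exists_eq_succ_of_ne_zero fun h0 => hab fun a b => ?_
      have h := Nat.find_spec hex
      rw [h0, derivedSeries_zero] at h
      have hall : ∀ a : G, a = 1 := fun a => Subgroup.mem_bot.mp (h ▸ Subgroup.mem_top a)
      rw [hall a, hall b]
    set A := derivedSeries G m with hA
    have hA0 : A ≠ ⊥ := Nat.find_min hex (by omega)
    have hAn : A.Normal := derivedSeries_normal G m
    have hAab : ∀ a ∈ A, ∀ b ∈ A, a * b = b * a := by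
      intro a ha b hb
      have h := Nat.find_spec hex
      rw [hm, derivedSeries_succ, ← hA, eq_bot_iff, Subgroup.commutator_le] at h
      have := h a ha b hb
      rwa [Subgroup.mem_bot, commutatorElement_eq_one_iff_mul_comm] at this
    have hlt : Nat.card (G ⧸ A) ≤ j := by
      have h1 : 1 < Nat.card A := (Subgroup.one_lt_card_iff_ne_bot A).mpr hA0
      have h2 := Subgroup.card_eq_card_quotient_mul_card_subgroup A
      have h4 : 0 < Nat.card (G ⧸ A) := Nat.card_pos
      nlinarith
    obtain ⟨Pb, hPbn, hPbab, hPb, hPbi⟩ := ih hlt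
      (Group.isSolvable_of_surjective (QuotientGroup.mk'_surjective A))
      (fun θ => by obtain ⟨χ, hχ, -⟩ := exists_inflate A θ; rw [← hχ]; exact hdeg χ)
    set H := Pb.comap (QuotientGroup.mk' A) with hH
    have hHn : H.Normal := hPbn.comap _
    have hHi : H.index = Pb.index :=
      Subgroup.index_comap_of_surjective _ (QuotientGroup.mk'_surjective A)
    by_cases hHtop : H = ⊤
    · exfalso
      apply hab
      have hPbtop : Pb = ⊤ := by
        rw [← Subgroup.index_eq_one, ← hHi, hHtop, Subgroup.index_top]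
      obtain ⟨k, hk⟩ := IsPGroup.iff_card.mp hPb
      rw [hPbtop, Subgroup.card_top, ← Subgroup.index_eq_card] at hk
      refine commute_of_degree_one fun χ => ?_
      have h := degree_dvd_index χ A hAab
      rw [hk] at h
      obtain ⟨i, -, hi⟩ := (Nat.dvd_prime_pow hp.out).mp h
      rcases Nat.eq_zero_or_pos i with h0 | h0
      · rw [hi, h0, pow_zero]
      · exact absurd (hi ▸ dvd_pow_self p h0.ne') (hdeg χ)
    · have hHlt : Nat.card H ≤ j := by
        have h1 : H.index ≠ 1 := fun h => hHtop (Subgroup.index_eq_one.mp h)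
        have h2 := H.index_mul_card
        have h3 : 0 < H.index := Nat.pos_of_ne_zero Subgroup.index_ne_zero_of_finite
        have h4 : 0 < Nat.card H := Nat.card_pos
        have h5 : 2 * Nat.card H ≤ H.index * Nat.card H := Nat.mul_le_mul_right _ (by omega)
        omega
      obtain ⟨Q, hQn, hQab, hQ, hQi⟩ := ih hHlt
        (Group.isSolvable_of_isSolvable_injective H.subtype_injective)
        (fun θ h => by obtain ⟨χ, hχ⟩ := exists_dvd_of_normal H θ; exact hdeg χ (h.trans hχ))
      let S : Sylow p H := hQ.toSylow hQi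
      have hS : (S : Subgroup H) = Q := rfl
      haveI : (S : Subgroup H).Normal := hS ▸ hQn
      haveI : (S : Subgroup H).Characteristic := S.characteristic_of_normal inferInstance
      refine ⟨(S : Subgroup H).map H.subtype, inferInstance, ?_, hQ.map _, ?_⟩
      · rintro _ ⟨x, hx, rfl⟩ _ ⟨y, hy, rfl⟩
        simpa using congrArg H.subtype (hQab x hx y hy)
      · rw [hS, Subgroup.index_map_subtype]
        intro h
        rcases hp.out.dvd_mul.mp h with h' | h'
        · exact hQi h'
        · exact hPbi (hHi ▸ h')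

end Cfsg.Agent.CharDeep.Deg
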