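import Cfsg.Agent.CharDeep.Deg.FittingDeg

/-! The nilpotent length of a solvable group is at most the number of its degrees. -/

namespace Cfsg.Agent.CharDeep.Deg

universe u

/-- The set of character degrees. -/
def degSet (G : Type u) [Group G] : Set ℕ :=
  {d : ℕ | ∃ χ : Cfsg.IrrCharacter G, Cfsg.charDegree (χ : G → ℂ) = d}

theorem degSet_finite (G : Type u) [Group G] [Finite G] : (degSet G).Finite :=
  (Set.finite_range fun χ : Cfsg.IrrCharacter G => Cfsg.charDegree (χ : G → ℂ)).subset
    fun _ ⟨χ, hχ⟩ => ⟨χ, hχ⟩

theorem one_mem_degSet (G : Type u) [Group G] [Finite G] : 1 ∈ degSet G :=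
  ⟨⟨1, CharCore.isIrrCharacter_one⟩, degree_of_eq (n := 1) (by simp)⟩

theorem degSet_quotient_subset {G : Type u} [Group G] [Finite G] (N : Subgroup G) [N.Normal] :
    degSet (G ⧸ N) ⊆ degSet G := by
  rintro d ⟨θ, hθ⟩
  obtain ⟨χ, hχ, -⟩ := exists_inflate N θ
  exact ⟨χ, hχ.trans hθ⟩

theorem degSet_quotient_fitting_ssubset {G : Type u} [Group G] [Finite G]
    (hsolv : Group.IsSolvable G) (hF : Cfsg.fittingSubgroup G ≠ ⊤)
    [(Cfsg.fittingSubgroup G).Normal] :
    degSet (G ⧸ Cfsg.fittingSubgroup G) ⊂ degSet G := by
  classical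
  have := Fintype.ofFinite G
  set F := Cfsg.fittingSubgroup G with hFdef
  refine ⟨degSet_quotient_subset F, fun hsub => ?_⟩
  obtain ⟨b, hb, hmax⟩ := Set.exists_max_image (degSet G) id (degSet_finite G) ⟨1, one_mem_degSet G⟩
  obtain ⟨θ, hθ⟩ := hsub hb
  obtain ⟨χ, hχ, hχval⟩ := exists_inflate F θ
  have hKn := CharDeep.transKer_normal (CharCore.irr_isClassFunction χ)
  have hker : ∀ g : G, g ∈ CharDeep.transKer (χ : G → ℂ) ↔ (χ : G → ℂ) g = (χ : G → ℂ) 1 :=
    fun g => ⟨CharDeep.apply_eq_one_of_mem_transKer,
      CharDeep.mem_transKer_of_apply_eq (CharCore.irr_isCharacter χ)⟩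
  have hFK : F ≤ CharDeep.transKer (χ : G → ℂ) := fun g hg => by
    rw [hker, hχval, hχval]
    rw [QuotientGroup.mk'_apply, (QuotientGroup.eq_one_iff g).mpr hg, map_one]
  obtain ⟨ψ, hlt, -⟩ : ∃ ψ : Cfsg.IrrCharacter G,
      Cfsg.charDegree (χ : G → ℂ) < Cfsg.charDegree (ψ : G → ℂ) ∧ True := by
    by_cases hle : CharDeep.transKer (χ : G → ℂ) ≤ F
    · obtain ⟨ψ, h, -⟩ := exists_larger_of_eq χ _ hker (le_antisymm hle hFK)
        (Group.isSolvable_of_surjective (QuotientGroup.mk'_surjective _))
        (fun h => hF (top_le_iff.mp (h ▸ hle)))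
      exact ⟨ψ, h, trivial⟩
    · obtain ⟨ψ, h, -⟩ := exists_larger_of_not_le χ _ hker hle
      exact ⟨ψ, h, trivial⟩
  have := hmax _ ⟨ψ, rfl⟩
  simp only [id] at this
  omega

theorem exists_chain : ∀ (n : ℕ) {G : Type u} [Group G] [Finite G], Group.IsSolvable G →
    (degSet G).ncard ≤ n → ∃ N : Fin (n + 1) → Subgroup G, N 0 = ⊥ ∧ N (Fin.last n) = ⊤ ∧
      Monotone N ∧ (∀ i, (N i).Normal) ∧
      ∀ i : Fin n, ∀ h : ((N i.castSucc).subgroupOf (N i.succ)).Normal,
        Group.IsNilpotent (↥(N i.succ) ⧸ (N i.castSucc).subgroupOf (N i.succ)) := by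
  intro n
  induction n with
  | zero =>
    intro G _ _ _ h
    exact absurd h (not_le_of_gt ((Set.ncard_pos (degSet_finite G)).mpr ⟨1, one_mem_degSet G⟩))
  | succ n ih =>
    intro G _ _ hsolv hn
    set F := Cfsg.fittingSubgroup G with hFdef
    have hFnil : Group.IsNilpotent F := Fitting.fitting_isNilpotent
    by_cases hF : F = ⊤
    · refine ⟨Fin.cases ⊥ fun _ => ⊤, rfl, ?_, ?_, ?_, ?_⟩
      · rw [show Fin.last (n + 1) = (Fin.last n).succ from rfl]
        rfl
      · intro i j hij
        induction j using Fin.cases with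
        | zero => rw [Fin.le_zero_iff.mp hij]
        | succ j => exact le_top
      · intro i
        induction i using Fin.cases with
        | zero => exact inferInstanceAs (⊥ : Subgroup G).Normal
        | succ i => exact inferInstanceAs (⊤ : Subgroup G).Normal
      · intro i h
        have htop : Group.IsNilpotent G := Fitting.fitting_eq_top_iff.mp hF
        exact Group.nilpotent_of_surjective _ (QuotientGroup.mk'_surjective _)
    · have hFn : F.Normal := by
        rw [hFdef]
        infer_instance
      have hss : degSet (G ⧸ F) ⊂ degSet G := degSet_quotient_fitting_ssubset hsolv hF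
      have hlt := Set.ncard_lt_ncard hss (degSet_finite G)
      obtain ⟨N, hN0, hNl, hNm, hNn, hNq⟩ := ih
        (Group.isSolvable_of_surjective (QuotientGroup.mk'_surjective F)) (by omega)
      refine ⟨Fin.cases ⊥ fun j => (N j).comap (QuotientGroup.mk' F), rfl, ?_, ?_, ?_, ?_⟩
      · show (N (Fin.last n)).comap (QuotientGroup.mk' F) = ⊤
        rw [hNl, Subgroup.comap_top]
      · intro i j hij
        induction i using Fin.cases with
        | zero => exact bot_le
        | succ i =>
          induction j using Fin.cases with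
          | zero => exact absurd hij (by simp [Fin.succ_ne_zero])
          | succ j => exact Subgroup.comap_mono (hNm (Fin.succ_le_succ_iff.mp hij))
      · intro i
        induction i using Fin.cases with
        | zero => exact inferInstanceAs (⊥ : Subgroup G).Normal
        | succ i => exact (hNn i).comap _
      · intro i
        induction i using Fin.cases with
        | zero =>
          intro h
          show Group.IsNilpotent (↥((N (0 : Fin (n + 1))).comap (QuotientGroup.mk' F)) ⧸
            (⊥ : Subgroup G).subgroupOf _)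
          have hle : (N 0).comap (QuotientGroup.mk' F) ≤ F := by
            rw [hN0, MonoidHom.comap_bot, QuotientGroup.ker_mk']
          haveI := Fitting.isNilpotent_of_le hFnil hle
          exact Group.nilpotent_of_surjective _ (QuotientGroup.mk'_surjective _)
        | succ i =>
          intro h
          show Group.IsNilpotent (↥((N i.succ).comap (QuotientGroup.mk' F)) ⧸
            ((N i.castSucc).comap (QuotientGroup.mk' F)).subgroupOf _)
          haveI := hNn i.castSucc
          haveI := hNn i.castSucc
          haveI := hNq i inferInstance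
          let f : (N i.succ).comap (QuotientGroup.mk' F) →*
              ↥(N i.succ) ⧸ (N i.castSucc).subgroupOf (N i.succ) :=
            (QuotientGroup.mk' _).comp ((QuotientGroup.mk' F).subgroupComap (N i.succ))
          have hker : f.ker = ((N i.castSucc).comap (QuotientGroup.mk' F)).subgroupOf
              ((N i.succ).comap (QuotientGroup.mk' F)) := by
            ext x
            rw [MonoidHom.mem_ker, MonoidHom.comp_apply, QuotientGroup.mk'_apply,
              QuotientGroup.eq_one_iff]
            rfl
          have hsurj : Function.Surjective f :=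
            (QuotientGroup.mk'_surjective _).comp
              (MonoidHom.subgroupComap_surjective_of_surjective _ _
                (QuotientGroup.mk'_surjective F))
          exact Group.nilpotent_of_mulEquiv ((QuotientGroup.quotientMulEquivOfEq hker.symm).trans
            (QuotientGroup.quotientKerEquivOfSurjective f hsurj)).symm

end Cfsg.Agent.CharDeep.Deg
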