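import Cfsg.Agent.CharDeep.Deg.Supplement
import Cfsg.Agent.Lib.Fitting.Minimal

/-! Kernels of irreducible characters against the Fitting subgroup. -/

namespace Cfsg.Agent.CharDeep.Deg

universe u

variable {G : Type u} [Group G] [Finite G]

theorem exists_nonnormal_sylow (M : Subgroup G) [M.Normal] (hM : ¬ M ≤ Cfsg.fittingSubgroup G) :
    ∃ (q : ℕ) (_ : Fact q.Prime) (S : Sylow q M), ¬ ((S : Subgroup M).map M.subtype).Normal := by
  by_contra! h
  refine hM (Fitting.le_fitting inferInstance ?_)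
  refine ((Group.isNilpotent_of_finite_tfae (G := M)).out 0 3).mpr fun q hq S => ?_
  have := (h q hq S).comap M.subtype
  rwa [Subgroup.comap_map_eq_self_of_injective M.subtype_injective] at this

theorem sylow_map_props (M : Subgroup G) (q : ℕ) [Fact q.Prime] (S : Sylow q M) :
    (S : Subgroup M).map M.subtype ≤ M ∧ IsPGroup q ((S : Subgroup M).map M.subtype) ∧
      ¬ q ∣ ((S : Subgroup M).map M.subtype).relIndex M := by
  refine ⟨Subgroup.map_subtype_le _, S.isPGroup'.map _, ?_⟩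
  rw [Subgroup.relIndex, Subgroup.subgroupOf,
    Subgroup.comap_map_eq_self_of_injective M.subtype_injective]
  exact S.not_dvd_index' (fun h => Subgroup.index_ne_zero_of_finite h)

theorem frattini_argument (M : Subgroup G) [M.Normal] (q : ℕ) [Fact q.Prime] (S : Sylow q M)
    (g : G) : ∃ m ∈ M, ∃ h ∈ Subgroup.normalizer
      (((S : Subgroup M).map M.subtype : Subgroup G) : Set G), g = m * h := by
  have h : g ∈ M ⊔ Subgroup.normalizer (((S : Subgroup M).map M.subtype : Subgroup G) : Set G) := by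
    rw [sup_comm, Sylow.normalizer_sup_eq_top S]; exact Subgroup.mem_top g
  obtain ⟨a, ha, b, hb, hab⟩ := Subgroup.mem_sup_of_normal_left.mp h
  exact ⟨a, ha, b, hb, hab.symm⟩

theorem exists_larger_of_not_le [Fintype G] (χ : Cfsg.IrrCharacter G) (K : Subgroup G) [K.Normal]
    (hker : ∀ g : G, g ∈ K ↔ (χ : G → ℂ) g = (χ : G → ℂ) 1)
    (hK : ¬ K ≤ Cfsg.fittingSubgroup G) :
    ∃ ψ : Cfsg.IrrCharacter G, Cfsg.charDegree (χ : G → ℂ) < Cfsg.charDegree (ψ : G → ℂ) ∧
      ∃ L : Subgroup G, (∀ g : G, g ∈ L ↔ (ψ : G → ℂ) g = (ψ : G → ℂ) 1) ∧ L < K := by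
  obtain ⟨q, hq, S, hS⟩ := exists_nonnormal_sylow K hK
  obtain ⟨h1, h2, h3⟩ := sylow_map_props K q S
  refine exists_larger χ K K le_rfl hker q (fun m hm => ⟨0, by simpa using hm⟩) _ h1 h2 h3 hS
    (frattini_argument K q S) fun k hk => Subgroup.subset_closure ?_
  show (χ : G → ℂ) k ≠ 0
  rw [(hker k).mp hk]
  exact CharCore.irr_apply_one_ne_zero χ

theorem exists_larger_of_eq [Fintype G] (χ : Cfsg.IrrCharacter G) (K : Subgroup G) [hKn : K.Normal]
    (hker : ∀ g : G, g ∈ K ↔ (χ : G → ℂ) g = (χ : G → ℂ) 1)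
    (hKF : K = Cfsg.fittingSubgroup G) (hsolv : Group.IsSolvable (G ⧸ K)) (hK : K ≠ ⊤) :
    ∃ ψ : Cfsg.IrrCharacter G, Cfsg.charDegree (χ : G → ℂ) < Cfsg.charDegree (ψ : G → ℂ) ∧
      ∃ L : Subgroup G, (∀ g : G, g ∈ L ↔ (ψ : G → ℂ) g = (ψ : G → ℂ) 1) ∧ L < K := by
  classical
  have := hsolv
  let V := Subgroup.closure {g : G | (χ : G → ℂ) g ≠ 0}
  have hVn : V.Normal := ⟨fun n hn g => by
    have h1 : V.map (MulAut.conj g).toMonoidHom ≤ V := by
      rw [MonoidHom.map_closure, Subgroup.closure_le]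
      rintro _ ⟨y, hy, rfl⟩
      refine Subgroup.subset_closure ?_
      show (χ : G → ℂ) (g * y * g⁻¹) ≠ 0
      rw [CharCore.irr_isClassFunction χ y g]; exact hy
    exact h1 ⟨n, hn, rfl⟩⟩
  have hKV : K ≤ V := fun k hk => Subgroup.subset_closure (by
    show (χ : G → ℂ) k ≠ 0
    rw [(hker k).mp hk]; exact CharCore.irr_apply_one_ne_zero χ)
  have hVK : ¬ V ≤ K := by
    intro hle
    have hχ1 : χ ≠ ⟨1, CharCore.isIrrCharacter_one⟩ := by
      rintro rfl
      exact hK (eq_top_iff.mpr fun g _ => (hker g).mpr rfl)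
    have h0 := CharCore.classInner_irr_of_ne hχ1
    unfold Cfsg.classInner at h0
    simp only [Pi.one_apply, map_one, mul_one, mul_eq_zero, inv_eq_zero, Nat.cast_eq_zero,
      Nat.card_pos.ne', false_or] at h0
    have hzero : ∀ g : G, g ∉ K → (χ : G → ℂ) g = 0 := fun g hg => by
      by_contra hne; exact hg (hle (Subgroup.subset_closure hne))
    rw [← Finset.sum_filter_add_sum_filter_not Finset.univ (· ∈ K),
      Finset.sum_eq_zero (s := Finset.univ.filter fun g => ¬ g ∈ K)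
        (fun g hg => hzero g (Finset.mem_filter.mp hg).2), add_zero,
      Finset.sum_congr rfl (fun g hg => (hker g).mp (Finset.mem_filter.mp hg).2), Finset.sum_const,
      nsmul_eq_mul] at h0
    rcases mul_eq_zero.mp h0 with h | h
    · rw [Nat.cast_eq_zero, Finset.card_eq_zero, Finset.filter_eq_empty_iff] at h
      exact h (Finset.mem_univ 1) K.one_mem
    · exact CharCore.irr_apply_one_ne_zero χ h
  have hVb : V.map (QuotientGroup.mk' K) ≠ ⊥ := by
    rw [Ne, Subgroup.map_eq_bot_iff, QuotientGroup.ker_mk']; exact hVK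
  obtain ⟨A, hA, hAV⟩ := Fitting.exists_isMinNormal_le
    (hVn.map _ (QuotientGroup.mk'_surjective K)) hVb
  obtain ⟨q, hq, hAq⟩ := hA.exists_isElementaryAbelian_of_isSolvable
  haveI := Fact.mk hq
  let M := A.comap (QuotientGroup.mk' K)
  have hMn : M.Normal := hA.1.comap _
  have hKM : K ≤ M := fun k hk => by
    show QuotientGroup.mk' K k ∈ A
    rw [(QuotientGroup.eq_one_iff k).mpr hk |> (fun h => (show QuotientGroup.mk' K k = 1 from h))]
    exact A.one_mem
  have hMV : M ≤ V := fun m hm => by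
    obtain ⟨v, hv, hvm⟩ := hAV hm
    have h1 : v⁻¹ * m ∈ K := QuotientGroup.eq.mp hvm
    simpa using V.mul_mem hv (hKV h1)
  have hqM : ∀ m ∈ M, ∃ j : ℕ, m ^ q ^ j ∈ K := fun m hm => ⟨1, by
    rw [pow_one, ← QuotientGroup.eq_one_iff]
    exact hAq.2 (QuotientGroup.mk' K m) hm⟩
  have hMK : ¬ M ≤ K := by
    intro hle
    refine hA.2.1 (eq_bot_iff.mpr fun a ha => ?_)
    obtain ⟨g, rfl⟩ := QuotientGroup.mk'_surjective K a
    exact Subgroup.mem_bot.mpr ((QuotientGroup.eq_one_iff g).mpr (hle ha))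
  obtain ⟨r, hr, S, hS⟩ := exists_nonnormal_sylow M (hKF ▸ hMK)
  obtain ⟨h1, h2, h3⟩ := sylow_map_props M r S
  by_cases hrq : r = q
  · subst hrq
    refine exists_larger χ K M hKM hker r hqM _ h1 h2 h3 hS (fun g => ?_) hMV
    let Q := (S : Subgroup M).map M.subtype
    have hsup : M ≤ K ⊔ Q := by
      have hd1 : (K ⊔ Q).relIndex M ∣ Q.relIndex M := by
        rw [← Subgroup.relIndex_mul_relIndex Q (K ⊔ Q) M le_sup_right (sup_le hKM h1)]
        exact dvd_mul_left _ _
      have hd2 : (K ⊔ Q).relIndex M ∣ K.relIndex M := by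
        rw [← Subgroup.relIndex_mul_relIndex K (K ⊔ Q) M le_sup_left (sup_le hKM h1)]
        exact dvd_mul_left _ _
      have hpg : IsPGroup r (M ⧸ K.subgroupOf M) := by
        intro y
        obtain ⟨m, rfl⟩ := QuotientGroup.mk'_surjective _ y
        obtain ⟨j, hj⟩ := hqM m m.2
        refine ⟨j, ?_⟩
        rw [← map_pow, QuotientGroup.mk'_apply, QuotientGroup.eq_one_iff, Subgroup.mem_subgroupOf]
        simpa using hj
      obtain ⟨k, hk⟩ := IsPGroup.iff_card.mp hpg
      rw [← Subgroup.index_eq_card] at hk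
      have h5 : K.relIndex M = r ^ k := hk
      rw [h5] at hd2
      obtain ⟨i, -, hi⟩ := (Nat.dvd_prime_pow hr.out).mp hd2
      rcases Nat.eq_zero_or_pos i with h0 | h0
      · rw [h0, pow_zero] at hi
        exact Subgroup.relIndex_eq_one.mp hi
      · exact absurd ((hi ▸ dvd_pow_self r h0.ne' : r ∣ (K ⊔ Q).relIndex M).trans hd1) h3
    obtain ⟨m, hm, h, hh, rfl⟩ := frattini_argument M r S g
    obtain ⟨k, hk, y, hy, rfl⟩ := Subgroup.mem_sup_of_normal_left.mp (hsup hm)
    exact ⟨k, hk, y * h, Subgroup.mul_mem _ (Subgroup.le_normalizer hy) hh, mul_assoc _ _ _⟩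
  · exfalso
    apply hS
    have hSK : (S : Subgroup M).map M.subtype ≤ K := by
      rintro _ ⟨m, hm, rfl⟩
      obtain ⟨j, hj⟩ := hqM m m.2
      obtain ⟨i, hi⟩ := (IsPGroup.iff_orderOf.mp S.isPGroup') ⟨m, hm⟩
      rw [Subgroup.orderOf_mk, ← Subgroup.orderOf_coe] at hi
      have hcop : Nat.Coprime (q ^ j) (r ^ i) :=
        Nat.Coprime.pow j i ((Nat.coprime_primes hq hr.out).mpr (Ne.symm hrq))
      obtain ⟨a, b, hab⟩ : ∃ a b : ℤ, (q ^ j : ℕ) * a + (r ^ i : ℕ) * b = 1 :=
        ⟨_, _, by rw [← Nat.gcd_eq_gcd_ab, hcop.gcd_eq_one]; rfl⟩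
      rw [Subgroup.coe_subtype, ← zpow_one (m : G), ← hab, zpow_add, zpow_mul, zpow_mul,
        zpow_natCast, zpow_natCast, ← hi, pow_orderOf_eq_one, one_zpow, mul_one]
      exact K.zpow_mem hj a
    have hKnil : Group.IsNilpotent K := (Fitting.le_fitting_iff hKn).mp hKF.le
    have hRi : ¬ r ∣ ((S : Subgroup M).map M.subtype).relIndex K := fun h => h3 (h.trans (by
      rw [← Subgroup.relIndex_mul_relIndex _ K M hSK hKM]; exact dvd_mul_right _ _))
    let R : Sylow r K := IsPGroup.toSylow (P := ((S : Subgroup M).map M.subtype).subgroupOf K)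
      (h2.of_equiv (Subgroup.subgroupOfEquivOfLe hSK).symm) hRi
    have hRn : (R : Subgroup K).Normal :=
      ((Group.isNilpotent_of_finite_tfae (G := K)).out 0 3 rfl rfl).mp hKnil r hr R
    haveI := R.characteristic_of_normal hRn
    have hmap : ((R : Subgroup K).map K.subtype).Normal := inferInstance
    have he : (R : Subgroup K).map K.subtype = (S : Subgroup M).map M.subtype :=
      Subgroup.map_subgroupOf_eq_of_le hSK
    rwa [he] at hmap

end Cfsg.Agent.CharDeep.Deg
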