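import Cfsg.Agent.CharDeep.Deg.TwoDegMain
import Cfsg.Agent.Lib.CharClifford.Central
import Cfsg.Agent.Lib.Fitting.Minimal
import Mathlib.RingTheory.RootsOfUnity.Complex
import Mathlib.GroupTheory.GroupAction.CardCommute

/-! Groups with degree set `{1, p}`. -/

namespace Cfsg.Agent.CharDeep.Deg

open scoped ComplexConjugate commutatorElement

universe u

variable {G : Type u} [Group G] [Fintype G]

theorem exists_central_scalar (χ : Cfsg.IrrCharacter G) {z : G} (hz : z ∈ Subgroup.center G) :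
    ∃ c : ℂ, c * conj c = 1 ∧ ∀ y : G, (χ : G → ℂ) (z * y) = c * (χ : G → ℂ) y := by
  obtain ⟨n, ρ, hρ, hchar⟩ := χ.2
  obtain ⟨c, hc⟩ := CharClifford.exists_scalar_of_mem_center ρ hz
  have h : ∀ y : G, (χ : G → ℂ) (z * y) = c * (χ : G → ℂ) y := fun y => by
    rw [← hchar]
    simp only [Representation.character, map_mul, hc, smul_mul_assoc, one_mul, map_smul, smul_eq_mul]
  refine ⟨c, ?_, h⟩
  have h1 : (χ : G → ℂ) z = c * (χ : G → ℂ) 1 := by simpa using h 1
  have h2 := h z⁻¹
  rw [mul_inv_cancel, CharCore.irr_apply_inv, h1, map_mul, apply_one χ, map_natCast, ← mul_assoc]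
    at h2
  exact mul_right_cancel₀ (Nat.cast_ne_zero.mpr (degree_pos χ).ne') (h2.symm.trans (one_mul _).symm)

theorem degree_sq_le_index_center (χ : Cfsg.IrrCharacter G) :
    Cfsg.charDegree (χ : G → ℂ) ^ 2 ≤ (Subgroup.center G).index := by
  classical
  set d := Cfsg.charDegree (χ : G → ℂ) with hd
  have h := CharCore.classInner_irr_self χ
  unfold Cfsg.classInner at h
  have h2 := (inv_mul_eq_one₀ (Nat.cast_ne_zero.mpr Nat.card_pos.ne')).mp h
  simp only [Complex.mul_conj] at h2
  have hr : (Nat.card G : ℝ) = ∑ g : G, Complex.normSq ((χ : G → ℂ) g) := by exact_mod_cast h2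
  have hz : ∀ g ∈ Finset.univ.filter (fun g : G => g ∈ Subgroup.center G),
      Complex.normSq ((χ : G → ℂ) g) = (d : ℝ) ^ 2 := by
    intro g hg
    obtain ⟨c, hcc, hc⟩ := exists_central_scalar χ (Finset.mem_filter.mp hg).2
    have h1 : (χ : G → ℂ) g = c * (d : ℂ) := by rw [hd, ← apply_one χ]; simpa using hc 1
    have h3 : Complex.normSq c = 1 := by rw [Complex.mul_conj] at hcc; exact_mod_cast hcc
    rw [h1, Complex.normSq_mul, h3, one_mul, Complex.normSq_natCast]; ring
  have hle : ∑ g ∈ Finset.univ.filter (fun g : G => g ∈ Subgroup.center G),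
      Complex.normSq ((χ : G → ℂ) g) ≤ (Nat.card G : ℝ) := by
    rw [hr]
    exact Finset.sum_le_sum_of_subset_of_nonneg (Finset.subset_univ _)
      fun g _ _ => Complex.normSq_nonneg _
  rw [Finset.sum_congr rfl hz, Finset.sum_const, nsmul_eq_mul] at hle
  have hcard : (Finset.univ.filter (fun g : G => g ∈ Subgroup.center G)).card =
      Nat.card (Subgroup.center G) := by
    rw [Nat.card_eq_fintype_card, ← Fintype.card_subtype]
  rw [hcard, ← (Subgroup.center G).card_mul_index, Nat.cast_mul] at hle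
  have hpos : (0 : ℝ) < Nat.card (Subgroup.center G) := by exact_mod_cast Nat.card_pos
  have := le_of_mul_le_mul_left hle hpos
  exact_mod_cast this

/-- A maximal abelian normal subgroup of a nilpotent group is self-centralising. -/
theorem centralizer_le_of_maximal [Group.IsNilpotent G] (A : Subgroup G) [hAn : A.Normal]
    (hab : ∀ a ∈ A, ∀ b ∈ A, a * b = b * a)
    (hmax : ∀ B : Subgroup G, B.Normal → (∀ a ∈ B, ∀ b ∈ B, a * b = b * a) → A ≤ B → B = A) :
    Subgroup.centralizer (A : Set G) ≤ A := by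
  intro x hx
  by_contra hxA
  let C := Subgroup.centralizer (A : Set G)
  have hne : C.map (QuotientGroup.mk' A) ≠ ⊥ := by
    rw [Ne, Subgroup.map_eq_bot_iff, QuotientGroup.ker_mk']
    exact fun h => hxA (h hx)
  have : (C.map (QuotientGroup.mk' A)).Normal :=
    Subgroup.Normal.map inferInstance _ (QuotientGroup.mk'_surjective A)
  obtain ⟨⟨y, hy⟩, hy1⟩ : ∃ y : ↥(C.map (QuotientGroup.mk' A) ⊓ Subgroup.center (G ⧸ A)), y ≠ 1 := by
    by_contra! h
    exact Fitting.inf_center_ne_bot hne (eq_bot_iff.mpr fun z hz =>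
      Subgroup.mem_bot.mpr (congrArg Subtype.val (h ⟨z, hz⟩)))
  obtain ⟨⟨c, hc, rfl⟩, hyz⟩ := hy
  let M := A ⊔ Subgroup.zpowers c
  have hMn : M.Normal := by
    refine ⟨fun m hm g => ?_⟩
    have h1 : g * m * g⁻¹ * m⁻¹ ∈ A := by
      obtain ⟨a, ha, b, hb, rfl⟩ := Subgroup.mem_sup_of_normal_left.mp hm
      rw [← QuotientGroup.eq_one_iff, ← QuotientGroup.mk'_apply]
      obtain ⟨k, rfl⟩ := Subgroup.mem_zpowers_iff.mp hb
      have ha1 : QuotientGroup.mk' A a = 1 := (QuotientGroup.eq_one_iff a).mpr ha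
      simp only [map_mul, map_inv, map_zpow, ha1, one_mul]
      rw [Subgroup.mem_center_iff.mp (Subgroup.zpow_mem _ hyz k) (QuotientGroup.mk' A g)]
      group
    have h2 := M.mul_mem (Subgroup.mem_sup_left h1 : _ ∈ M) hm
    simpa using h2
  have hMab : ∀ a ∈ M, ∀ b ∈ M, a * b = b * a := by
    intro a ha b hb
    obtain ⟨a₁, ha₁, u, hu, rfl⟩ := Subgroup.mem_sup_of_normal_left.mp ha
    obtain ⟨b₁, hb₁, v, hv, rfl⟩ := Subgroup.mem_sup_of_normal_left.mp hb
    obtain ⟨i, rfl⟩ := Subgroup.mem_zpowers_iff.mp hu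
    obtain ⟨j, rfl⟩ := Subgroup.mem_zpowers_iff.mp hv
    have hc' : ∀ a ∈ A, ∀ k : ℤ, Commute a (c ^ k) := fun a ha k =>
      Subgroup.mem_centralizer_iff.mp (C.zpow_mem hc k) a ha
    have e1 : Commute a₁ b₁ := hab a₁ ha₁ b₁ hb₁
    exact ((e1.mul_right (hc' a₁ ha₁ j)).mul_left
      ((hc' b₁ hb₁ i).symm.mul_right ((Commute.refl c).zpow_zpow i j))).eq
  have := hmax M hMn hMab le_sup_left
  refine hy1 (Subtype.ext ((QuotientGroup.eq_one_iff c).mpr ?_))
  exact this ▸ Subgroup.mem_sup_right (Subgroup.mem_zpowers c)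

section Act

variable (A : Subgroup G) [A.Normal]

/-- Conjugation on linear characters of a normal subgroup. -/
def act (x : G) (l : A →* ℂˣ) : A →* ℂˣ := l.comp (MulAut.conjNormal x).toMonoidHom

theorem act_apply (x : G) (l : A →* ℂˣ) (b : A) : act A x l b = l (MulAut.conjNormal x b) := rfl

theorem act_act (x y : G) (l : A →* ℂˣ) : act A y (act A x l) = act A (x * y) l :=
  MonoidHom.ext fun b => congrArg l (by rw [map_mul]; rfl)

theorem act_mul (x : G) (l l' : A →* ℂˣ) : act A x (l * l') = act A x l * act A x l' :=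
  MonoidHom.ext fun _ => rfl

theorem act_one (l : A →* ℂˣ) : act A 1 l = l :=
  MonoidHom.ext fun b => congrArg l (Subtype.ext (by simp [MulAut.conjNormal_apply]))

theorem act_inv_hom (x : G) (l : A →* ℂˣ) : act A x l⁻¹ = (act A x l)⁻¹ :=
  MonoidHom.ext fun _ => rfl

theorem mem_stab_act {x : G} {l : A →* ℂˣ} : x ∈ stab A l ↔ act A x l = l :=
  mem_stab.trans ⟨fun h => MonoidHom.ext h, fun h b => DFunLike.congr_fun h b⟩

end Act

section Generic

variable {H L : Type*} [Group H] [CommGroup L] (f : H → L → L)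

theorem zpow_fixed (hmul : ∀ x a b, f x (a * b) = f x a * f x b) (v : L) (x : H) (hv : f x v = v)
    (i : ℤ) : f x (v ^ i) = v ^ i := by
  show (MonoidHom.mk' (f x) (hmul x)) (v ^ i) = v ^ i
  rw [map_zpow, MonoidHom.mk'_apply, hv]

theorem zpow_translate (hone : ∀ a, f 1 a = a) (hmul : ∀ x a b, f x (a * b) = f x a * f x b)
    (hcomp : ∀ x y a, f y (f x a) = f (x * y) a) (l v : L) (y : H) (hv : ∀ x, f x v = v)
    (hy : f y l = l * v) (i : ℤ) : f (y ^ i) l = l * v ^ i := by
  induction i using Int.induction_on with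
  | zero => rw [zpow_zero, zpow_zero, hone, mul_one]
  | succ i ih =>
    rw [zpow_add_one, ← hcomp, ih, hmul, hy, zpow_fixed f hmul v y (hv y), zpow_add_one,
      mul_assoc, mul_comm v]
  | pred i ih =>
    have hyi : f y⁻¹ l = l * v⁻¹ := by
      have e := congrArg (f y⁻¹) hy
      rw [hcomp, mul_inv_cancel, hone, hmul, hv] at e
      exact eq_mul_inv_of_mul_eq e.symm
    rw [zpow_sub_one, ← hcomp, ih, hmul, hyi, zpow_fixed f hmul v y⁻¹ (hv _), zpow_sub_one,
      mul_assoc, mul_comm v⁻¹]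

theorem line_eq {a b l m : L} (h : a * b = l * m) : a * l⁻¹ = (b * m⁻¹)⁻¹ := by
  rw [eq_inv_iff_mul_eq_one, mul_mul_mul_comm, h, ← mul_inv_rev, mul_comm m l, mul_inv_cancel]

theorem eq_mul_of_mul_inv {a l : L} : a = l * (a * l⁻¹) := by
  rw [mul_comm a, mul_inv_cancel_left]

theorem translate_zero {a l v : L} (h : a = l) : a = l * v ^ (0 : ℤ) := by
  rw [zpow_zero, mul_one, h]

theorem translate_eq_self {a l v : L} (h : a = l * v) (hv : v = 1) : a = l := by
  rw [h, hv, mul_one]

theorem zpow_mul_eq_one {v : L} {n : ℕ} (h : v ^ n = 1) (c : ℤ) : v ^ ((n : ℤ) * c) = 1 := by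
  rw [zpow_mul, zpow_natCast, h, one_zpow]

theorem zpow_eq_zpow_of_bezout {v w : L} {n : ℕ} (hv : v ^ n = 1) {a b u u' : ℤ}
    (hab : v ^ a = w ^ b) (huu : u * a + u' * n = 1) (i : ℤ) : v ^ i = w ^ (b * (u * i)) := by
  have e : i = a * (u * i) + (n : ℤ) * (u' * i) := by linear_combination -i * huu
  conv_lhs => rw [e]
  rw [zpow_add, zpow_mul_eq_one hv, mul_one, zpow_mul, hab, ← zpow_mul]

theorem pow_eq_one_of_translate {l v : L} {n : ℕ} (h : l = l * v ^ (n : ℤ)) : v ^ n = 1 := by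
  rw [zpow_natCast] at h
  exact mul_eq_left.mp h.symm

theorem eq_one_of_translate_inv {l v : L} (h : l = l * v⁻¹) : v = 1 :=
  inv_eq_one.mp (mul_eq_left.mp h.symm)

theorem inv_flip {w x : L} (h : w = x⁻¹) : x = w⁻¹ := by rw [h, inv_inv]

end Generic

section Main

variable {p : ℕ} [hp : Fact p.Prime] (hcd : ∀ χ : Cfsg.IrrCharacter G,
  Cfsg.charDegree (χ : G → ℂ) = 1 ∨ Cfsg.charDegree (χ : G → ℂ) = p)
  (A : Subgroup G) [hAn : A.Normal] (hab : ∀ a ∈ A, ∀ b ∈ A, a * b = b * a)

include hcd hab in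
theorem stab_index_eq (l : A →* ℂˣ) (h : stab A l ≠ ⊤) :
    (stab A l).index = p ∧ commutator G ≤ stab A l := by
  classical
  have := Fintype.ofFinite A
  have := Fintype.ofFinite (stab A l)
  obtain ⟨χ, hχ⟩ := CharCore.exists_over A (⟨_, CharCore.isIrrCharacter_hom l⟩ : Cfsg.IrrCharacter A)
  obtain ⟨ψ, hψ, hind, -⟩ := Ext.exists_inertia_induced A (CharCore.isIrrCharacter_hom l) (stab A l)
    (fun g => ⟨fun hg n => congrFun hg n, fun hg => funext hg⟩) (le_stab A hab l) χ.2 hχ
  have hdeg : Cfsg.charDegree (χ : G → ℂ) =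
      (stab A l).index * Cfsg.charDegree (ψ : stab A l → ℂ) := by
    refine degree_of_eq ?_
    rw [← hind, CharInd.indFun_apply_one, Nat.cast_mul]
    exact congrArg _ (apply_one ⟨ψ, hψ⟩)
  have hidx1 : (stab A l).index ≠ 1 := fun e => h (Subgroup.index_eq_one.mp e)
  have hidx : (stab A l).index = p := by
    rcases hcd χ with h1 | h1 <;> rw [h1] at hdeg
    · exact absurd (Nat.eq_one_of_mul_eq_one_right hdeg.symm) hidx1
    · exact (hp.out.eq_one_or_self_of_dvd _ ⟨_, hdeg⟩).resolve_left hidx1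
  exact ⟨hidx, commutator_le_of_index hcd _ hidx⟩

variable (hC : Subgroup.centralizer (A : Set G) ≤ A)

include hab hC in
theorem mem_of_forall_stab {g : G} (h : ∀ l : A →* ℂˣ, g ∈ stab A l) : g ∈ A := by
  refine hC (Subgroup.mem_centralizer_iff.mpr fun b hb => ?_)
  have h1 := congrArg Subtype.val (eq_of_forall_hom A hab (x := MulAut.conjNormal g ⟨b, hb⟩)
    (y := ⟨b, hb⟩) fun l => mem_stab.mp (h l) _)
  rw [MulAut.conjNormal_apply, mul_inv_eq_iff_eq_mul] at h1
  exact h1.symm

include hcd hab hC in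
theorem commutator_le_self : commutator G ≤ A := fun g hg => mem_of_forall_stab A hab hC fun l => by
  by_cases h : stab A l = ⊤
  · rw [h]; exact Subgroup.mem_top g
  · exact (stab_index_eq hcd A hab l h).2 hg

include hcd hab hC in
theorem pow_mem_self (g : G) : g ^ p ∈ A := mem_of_forall_stab A hab hC fun l => by
  by_cases h : stab A l = ⊤
  · rw [h]; exact Subgroup.mem_top _
  · obtain ⟨hi, hd⟩ := stab_index_eq hcd A hab l h
    haveI : (stab A l).Normal := ⟨fun n hn x => by
      have h1 : x * n * x⁻¹ * n⁻¹ ∈ commutator G :=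
        Subgroup.commutator_mem_commutator (Subgroup.mem_top x) (Subgroup.mem_top n)
      have h2 := (stab A l).mul_mem (hd h1) hn
      simpa using h2⟩
    exact hi ▸ (stab A l).pow_index_mem g

include hcd hab hC in
theorem act_comm (x y : G) (l : A →* ℂˣ) : act A x (act A y l) = act A y (act A x l) := by
  rw [act_act, act_act]
  have hc : ⁅y, x⁆ ∈ A := commutator_le_self hcd A hab hC
    (Subgroup.commutator_mem_commutator (Subgroup.mem_top y) (Subgroup.mem_top x))
  rw [show y * x = ⁅y, x⁆ * (x * y) by rw [commutatorElement_def]; group, ← act_act,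
    show act A ⁅y, x⁆ l = l from mem_stab_act A |>.mp (le_stab A hab l hc)]

include hcd hab hC in
/-- The displacement lines of two linear characters with different stabilizers coincide. -/
theorem exists_line (l₁ l₂ : A →* ℂˣ) (h₁ : stab A l₁ ≠ ⊤) (h₂ : stab A l₂ ≠ ⊤)
    (hne : stab A l₁ ≠ stab A l₂) :
    ∃ w : A →* ℂˣ, w ≠ 1 ∧ w ^ p = 1 ∧ (∀ x, act A x w = w) ∧
      (∀ x, ∃ i : ℤ, act A x l₁ = l₁ * w ^ i) ∧ (∀ x, ∃ i : ℤ, act A x l₂ = l₂ * w ^ i) := by
  classical
  obtain ⟨hi₁, hd₁⟩ := stab_index_eq hcd A hab l₁ h₁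
  obtain ⟨hi₂, hd₂⟩ := stab_index_eq hcd A hab l₂ h₂
  have hnorm : ∀ T : Subgroup G, commutator G ≤ T → T.Normal := fun T hT => ⟨fun n hn x => by
    have h1 : x * n * x⁻¹ * n⁻¹ ∈ commutator G :=
      Subgroup.commutator_mem_commutator (Subgroup.mem_top x) (Subgroup.mem_top n)
    have h2 := T.mul_mem (hT h1) hn
    simpa using h2⟩
  haveI := hnorm _ hd₁
  haveI := hnorm _ hd₂
  have hnle : ∀ S T : Subgroup G, S.index = p → T.index = p → S ≠ T → ¬ S ≤ T := by
    intro S T hS hT hne' hle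
    have h1 := Subgroup.relIndex_mul_index hle
    rw [hS, hT] at h1
    exact hne' (le_antisymm hle (Subgroup.relIndex_eq_one.mp
      ((mul_eq_right₀ hp.out.ne_zero).mp h1)))
  have hgen : ∀ T : Subgroup G, T.Normal → T.index = p → ∀ g, g ∉ T → ∀ x, ∃ i : ℤ, g ^ i * x ∈ T := by
    intro T hT hi g hg x
    have hcard : Nat.card (G ⧸ T) = p := by rw [← Subgroup.index_eq_card, hi]
    have hgne : QuotientGroup.mk' T g ≠ 1 := fun h => hg ((QuotientGroup.eq_one_iff g).mp h)
    obtain ⟨i, hi'⟩ := Subgroup.mem_zpowers_iff.mp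
      (mem_zpowers_of_prime_card hcard hgne (g' := QuotientGroup.mk' T x⁻¹))
    refine ⟨i, (QuotientGroup.eq_one_iff _).mp ?_⟩
    change QuotientGroup.mk' T (g ^ i * x) = 1
    rw [map_mul, map_zpow, hi', map_inv, inv_mul_cancel]
  obtain ⟨h, hh₂, hh₁⟩ := SetLike.not_le_iff_exists.mp (hnle _ _ hi₂ hi₁ hne.symm)
  obtain ⟨g, hg₁, hg₂⟩ := SetLike.not_le_iff_exists.mp (hnle _ _ hi₁ hi₂ hne)
  have hg3 : g ∉ stab A (l₁ * l₂) := by
    intro hg
    apply hg₂
    rw [mem_stab_act] at hg hg₁ ⊢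
    rw [act_mul, hg₁] at hg
    exact mul_left_cancel hg
  have h3 : stab A (l₁ * l₂) ≠ ⊤ := fun e => hg3 (e ▸ Subgroup.mem_top g)
  obtain ⟨hi₃, hd₃⟩ := stab_index_eq hcd A hab _ h3
  obtain ⟨j, hj⟩ := hgen _ (hnorm _ hd₃) hi₃ g hg3 h
  set k := g ^ j with hk
  have hk₁ : act A k l₁ = l₁ := (mem_stab_act A).mp ((stab A l₁).zpow_mem hg₁ j)
  have hh₂' : act A h l₂ = l₂ := (mem_stab_act A).mp hh₂
  have h4 : act A h l₁ * act A k l₂ = l₁ * l₂ := by
    have e := (mem_stab_act A).mp hj
    rwa [← act_act, act_mul, act_mul, hk₁, act_comm hcd A hab hC h k, hh₂'] at e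
  set w := act A h l₁ * l₁⁻¹ with hw
  have hw2 : w = (act A k l₂ * l₂⁻¹)⁻¹ := hw.trans (line_eq (L := A →* ℂˣ) (by exact h4))
  have hfix1 : ∀ t ∈ stab A l₁, act A t w = w := by
    intro t ht
    rw [hw, act_mul, act_inv_hom, act_comm hcd A hab hC t h, (mem_stab_act A).mp ht]
  have hfix2 : ∀ t ∈ stab A l₂, act A t w = w := by
    intro t ht
    rw [hw2, act_inv_hom, act_mul, act_inv_hom, act_comm hcd A hab hC t k, (mem_stab_act A).mp ht]
  have hfix : ∀ x, act A x w = w := by
    intro x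
    obtain ⟨i, hi⟩ := hgen _ inferInstance hi₁ h hh₁ x
    have hx : act A (h ^ i * x) w = w := hfix1 _ hi
    rw [← act_act, hfix2 _ ((stab A l₂).zpow_mem hh₂ i)] at hx
    exact hx
  have hpowact : ∀ (l v : A →* ℂˣ) (y : G), (∀ x, act A x v = v) → act A y l = l * v →
      ∀ i : ℤ, act A (y ^ i) l = l * v ^ i :=
    zpow_translate (act A) (act_one A) (act_mul A) (act_act A)
  have hw1 : act A h l₁ = l₁ * w := hw ▸ eq_mul_of_mul_inv (L := A →* ℂˣ)
  have hk2 : act A k l₂ = l₂ * w⁻¹ :=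
    (eq_mul_of_mul_inv (L := A →* ℂˣ)).trans (congrArg (l₂ * ·) (inv_flip (L := A →* ℂˣ) hw2))
  have hwne : w ≠ 1 := fun e => hh₁ ((mem_stab_act A).mpr (translate_eq_self (L := A →* ℂˣ) hw1 e))
  have hwp : w ^ p = 1 := by
    have e := hpowact l₁ w h hfix hw1 (p : ℤ)
    refine pow_eq_one_of_translate (L := A →* ℂˣ) (l := l₁) (Eq.trans ?_ e)
    rw [zpow_natCast]
    exact ((mem_stab_act A).mp (le_stab A hab l₁ (pow_mem_self hcd A hab hC h))).symm
  have hkT : k ∉ stab A l₂ := fun e =>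
    hwne (eq_one_of_translate_inv (L := A →* ℂˣ) (((mem_stab_act A).mp e).symm.trans hk2))
  refine ⟨w, hwne, hwp, hfix, fun x => ?_, fun x => ?_⟩
  · obtain ⟨i, hi⟩ := hgen _ inferInstance hi₁ h hh₁ x
    refine ⟨-i, ?_⟩
    have e : h ^ (-i) * (h ^ i * x) = x := by rw [← mul_assoc, ← zpow_add]; simp
    rw [← e, ← act_act, hpowact l₁ w h hfix hw1, act_mul, (mem_stab_act A).mp hi,
      zpow_fixed (act A) (act_mul A) w _ (hfix _)]
  · obtain ⟨i, hi⟩ := hgen _ inferInstance hi₂ k hkT x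
    refine ⟨i, ?_⟩
    have inv_zpow_neg' : ∀ {L : Type u} [CommGroup L] (w : L) (i : ℤ), w⁻¹ ^ (-i) = w ^ i := by
      intro L _ w i; rw [inv_zpow, zpow_neg, inv_inv]
    have hfix' : ∀ x, act A x w⁻¹ = w⁻¹ := fun x => by rw [act_inv_hom, hfix]
    have e : k ^ (-i) * (k ^ i * x) = x := by rw [← mul_assoc, ← zpow_add]; simp
    rw [← e, ← act_act, hpowact l₂ w⁻¹ k hfix' hk2, act_mul, (mem_stab_act A).mp hi,
      zpow_fixed (act A) (act_mul A) _ _ (hfix' _)]
    exact congrArg (l₂ * ·) (inv_zpow_neg' w i)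

include hcd hab hC in
/-- A maximal abelian normal subgroup has the centre as a subgroup of index `p`. -/
theorem relIndex_center (hA : A.index ≠ p) (hne : A ≠ ⊤) :
    Subgroup.center G ≤ A ∧ (Subgroup.center G).relIndex A = p := by
  classical
  have hZA : Subgroup.center G ≤ A := (Subgroup.center_le_centralizer _).trans hC
  obtain ⟨l₁, h₁⟩ : ∃ l : A →* ℂˣ, stab A l ≠ ⊤ := by
    by_contra! h
    exact hne (eq_top_iff.mpr fun g _ =>
      mem_of_forall_stab A hab hC fun l => (h l) ▸ Subgroup.mem_top g)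
  obtain ⟨l₂, h₂, hne₂⟩ : ∃ l : A →* ℂˣ, stab A l ≠ ⊤ ∧ stab A l₁ ≠ stab A l := by
    by_contra! h
    apply hA
    have hT : stab A l₁ = A := le_antisymm (fun g hg => mem_of_forall_stab A hab hC fun l => by
      by_cases hl : stab A l = ⊤
      · rw [hl]; exact Subgroup.mem_top g
      · rw [← h l hl]; exact hg) (le_stab A hab l₁)
    rw [← hT]; exact (stab_index_eq hcd A hab l₁ h₁).1
  obtain ⟨w, hw1, hwp, hwfix, hl₁, hl₂⟩ := exists_line hcd A hab hC l₁ l₂ h₁ h₂ hne₂
  have hwact : ∀ (i : ℤ) (x : G), act A x (w ^ i) = w ^ i := fun i x =>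
    zpow_fixed (act A) (act_mul A) w x (hwfix x) i
  have hall : ∀ (l : A →* ℂˣ) (x : G), ∃ i : ℤ, act A x l = l * w ^ i := by
    intro l x
    by_cases hl : stab A l = ⊤
    · exact ⟨0, translate_zero ((mem_stab_act A).mp (hl ▸ Subgroup.mem_top x))⟩
    have key : ∀ m : A →* ℂˣ, stab A m ≠ ⊤ → stab A m ≠ stab A l →
        (∀ y, ∃ i : ℤ, act A y m = m * w ^ i) → ∃ i : ℤ, act A x l = l * w ^ i := by
      intro m hm hml hmw
      obtain ⟨v, hv1, hvp, -, hmv, hlv⟩ := exists_line hcd A hab hC m l hm hl hml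
      obtain ⟨y, hy⟩ : ∃ y, y ∉ stab A m := by
        by_contra! hh; exact hm (eq_top_iff.mpr fun y _ => hh y)
      obtain ⟨a, ha⟩ := hmv y
      obtain ⟨b, hb⟩ := hmw y
      have hab' : v ^ a = w ^ b := mul_left_cancel (ha.symm.trans hb)
      have hva : v ^ a ≠ 1 := fun e => hy ((mem_stab_act A).mpr (translate_eq_self ha e))
      have hov : orderOf v = p := orderOf_eq_prime hvp hv1
      have hpa : ¬ (p : ℤ) ∣ a := fun ⟨c, hc⟩ => hva (hc ▸ zpow_mul_eq_one (L := A →* ℂˣ) hvp c)
      obtain ⟨u, u', huu⟩ : IsCoprime a (p : ℤ) :=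
        ((Nat.prime_iff_prime_int.mp hp.out).coprime_iff_not_dvd.mpr hpa).symm
      obtain ⟨i, hi⟩ := hlv x
      exact ⟨b * (u * i),
        hi.trans (congrArg (l * ·) (zpow_eq_zpow_of_bezout (L := A →* ℂˣ) hvp hab' huu i))⟩
    by_cases h1 : stab A l₁ = stab A l
    · exact key l₂ h₂ (fun e => hne₂ (h1.trans e.symm)) hl₂
    · exact key l₁ h₁ h1 hl₁
  refine ⟨hZA, ?_⟩
  -- the kernel of `w` is the centre
  obtain ⟨y, hy⟩ : ∃ y, y ∉ stab A l₁ := by
    by_contra! hh; exact h₁ (eq_top_iff.mpr fun y _ => hh y)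
  obtain ⟨b, hb⟩ := hl₁ y
  have hker : w.ker = (Subgroup.center G).subgroupOf A := by
    ext a
    rw [MonoidHom.mem_ker, Subgroup.mem_subgroupOf, Subgroup.mem_center_iff]
    constructor
    · intro ha g
      have h1 := congrArg Subtype.val (eq_of_forall_hom A hab (x := MulAut.conjNormal g a) (y := a)
        fun l => by
          obtain ⟨i, hi⟩ := hall l g
          have e := DFunLike.congr_fun hi a
          have hwa : (w ^ i) a = (w a) ^ i := map_zpow (MonoidHom.eval a) w i
          rwa [act_apply, MonoidHom.mul_apply, hwa, ha, one_zpow, mul_one] at e)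
      rwa [MulAut.conjNormal_apply, mul_inv_eq_iff_eq_mul] at h1
    · intro ha
      have e := DFunLike.congr_fun hb a
      have hwa : (w ^ b) a = (w a) ^ b := map_zpow (MonoidHom.eval a) w b
      rw [act_apply, MonoidHom.mul_apply, hwa, show MulAut.conjNormal y a = a from
        Subtype.ext (by rw [MulAut.conjNormal_apply, ha y, mul_inv_cancel_right]), left_eq_mul] at e
      have hpb : ¬ (p : ℤ) ∣ b := fun ⟨c, hc⟩ => hy ((mem_stab_act A).mpr
        (translate_eq_self hb (hc ▸ zpow_mul_eq_one (L := A →* ℂˣ) hwp c)))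
      have hp' : (w a) ^ p = 1 := by
        have := DFunLike.congr_fun hwp a
        rwa [MonoidHom.pow_apply, MonoidHom.one_apply] at this
      by_contra hne'
      exact hpb ((orderOf_eq_prime hp' hne') ▸ orderOf_dvd_iff_zpow_eq_one.mpr e)
  rw [Subgroup.relIndex, ← hker, Subgroup.index_ker]
  have hle : w.range ≤ rootsOfUnity p ℂ := by
    rintro _ ⟨a, rfl⟩
    rw [mem_rootsOfUnity]
    have := DFunLike.congr_fun hwp a
    rwa [MonoidHom.pow_apply, MonoidHom.one_apply] at this
  haveI : NeZero p := ⟨hp.out.ne_zero⟩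
  have hcard : Nat.card (rootsOfUnity p ℂ) = p := Complex.card_rootsOfUnity p
  rcases hp.out.eq_one_or_self_of_dvd _ (hcard ▸ Subgroup.card_dvd_of_le hle) with h | h
  · exfalso
    refine hw1 (MonoidHom.ext fun a => ?_)
    have : w.range = ⊥ := Subgroup.card_eq_one.mp h
    exact Subgroup.mem_bot.mp (this ▸ (⟨a, rfl⟩ : w a ∈ w.range))
  · exact h

end Main

variable {p : ℕ} [hp : Fact p.Prime]

theorem exists_maximal_abelian (M : Subgroup G) (hMn : M.Normal)
    (hMab : ∀ a ∈ M, ∀ b ∈ M, a * b = b * a) :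
    ∃ A : Subgroup G, A.Normal ∧ (∀ a ∈ A, ∀ b ∈ A, a * b = b * a) ∧ M ≤ A ∧
      ∀ B : Subgroup G, B.Normal → (∀ a ∈ B, ∀ b ∈ B, a * b = b * a) → A ≤ B → B = A := by
  obtain ⟨A, ⟨hAn, hAab, hMA⟩, hmax⟩ := (wellFounded_gt (α := Subgroup G)).has_min
    {B : Subgroup G | B.Normal ∧ (∀ a ∈ B, ∀ b ∈ B, a * b = b * a) ∧ M ≤ B}
    ⟨M, hMn, hMab, le_rfl⟩
  refine ⟨A, hAn, hAab, hMA, fun B hBn hBab hAB => ?_⟩
  by_contra hne
  exact hmax B ⟨hBn, hBab, hMA.trans hAB⟩ (lt_of_le_of_ne hAB (Ne.symm hne))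

theorem index_center_eq [Group.IsNilpotent G] (hcd : ∀ χ : Cfsg.IrrCharacter G,
    Cfsg.charDegree (χ : G → ℂ) = 1 ∨ Cfsg.charDegree (χ : G → ℂ) = p)
    (hG : ∃ a b : G, a * b ≠ b * a)
    (hno : ∀ A : Subgroup G, A.Normal → (∀ a ∈ A, ∀ b ∈ A, a * b = b * a) → A.index ≠ p) :
    (Subgroup.center G).index = p ^ 3 := by
  classical
  have hp2 := hp.out.two_le
  set Z := Subgroup.center G with hZ
  have facts : ∀ A : Subgroup G, A.Normal → (∀ a ∈ A, ∀ b ∈ A, a * b = b * a) →
      (∀ B : Subgroup G, B.Normal → (∀ a ∈ B, ∀ b ∈ B, a * b = b * a) → A ≤ B → B = A) →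
      Subgroup.centralizer (A : Set G) ≤ A ∧ Z ≤ A ∧ Z.relIndex A = p ∧ commutator G ≤ A ∧
        (∀ g : G, g ^ p ∈ A) := by
    intro A hAn hab hmax
    have hC := centralizer_le_of_maximal A hab hmax
    have hne : A ≠ ⊤ := by
      rintro rfl
      obtain ⟨a, b, h⟩ := hG
      exact h (hab a (Subgroup.mem_top a) b (Subgroup.mem_top b))
    obtain ⟨h1, h2⟩ := relIndex_center hcd A hab hC (hno A hAn hab) hne
    exact ⟨hC, h1, h2, commutator_le_self hcd A hab hC, pow_mem_self hcd A hab hC⟩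
  obtain ⟨A, hAn, hab, -, hmax⟩ := exists_maximal_abelian (⊥ : Subgroup G) inferInstance
    (by intro a ha b hb; rw [Subgroup.mem_bot] at ha hb; rw [ha, hb])
  obtain ⟨hC, hZA, hrel, hder, hpow⟩ := facts A hAn hab hmax
  obtain ⟨t, ht⟩ : ∃ t, A.index = p ^ t := by
    have h : IsPGroup p (G ⧸ A) := fun y => by
      obtain ⟨g, rfl⟩ := QuotientGroup.mk'_surjective A y
      exact ⟨1, by rw [pow_one, ← map_pow]; exact (QuotientGroup.eq_one_iff _).mpr (hpow g)⟩
    obtain ⟨t, ht⟩ := IsPGroup.iff_card.mp h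
    exact ⟨t, by rw [Subgroup.index_eq_card, ht]⟩
  have ht2 : 2 ≤ t := by
    by_contra hlt
    interval_cases t
    · rw [pow_zero, Subgroup.index_eq_one] at ht
      obtain ⟨a, b, h⟩ := hG
      exact h (hab a (ht ▸ Subgroup.mem_top a) b (ht ▸ Subgroup.mem_top b))
    · exact hno A hAn hab (by rw [ht, pow_one])
  have hq : Z.index = p ^ (t + 1) := by
    rw [← Subgroup.relIndex_mul_index hZA, hrel, ht, pow_succ']
  by_cases hcl : commutator G ≤ Z
  · -- class two
    have hcard : ∀ x : G, x ∉ Z →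
        Nat.card (Subgroup.centralizer ({x} : Set G)) = p * Nat.card Z := by
      intro x hx
      let M := Z ⊔ Subgroup.zpowers x
      have hMn : M.Normal := ⟨fun n hn g => by
        have h1 : g * n * g⁻¹ * n⁻¹ ∈ commutator G :=
          Subgroup.commutator_mem_commutator (Subgroup.mem_top g) (Subgroup.mem_top n)
        have h2 := M.mul_mem (Subgroup.mem_sup_left (hcl h1) : _ ∈ M) hn
        simpa using h2⟩
      have hMab : ∀ a ∈ M, ∀ b ∈ M, a * b = b * a := by
        intro a ha b hb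
        obtain ⟨z, hz, u, hu, rfl⟩ := Subgroup.mem_sup_of_normal_left.mp ha
        obtain ⟨z', hz', v, hv, rfl⟩ := Subgroup.mem_sup_of_normal_left.mp hb
        obtain ⟨i, rfl⟩ := Subgroup.mem_zpowers_iff.mp hu
        obtain ⟨j, rfl⟩ := Subgroup.mem_zpowers_iff.mp hv
        have c1 : ∀ w, Commute z w := fun w => (Subgroup.mem_center_iff.mp hz w).symm
        have c2 : ∀ w, Commute z' w := fun w => (Subgroup.mem_center_iff.mp hz' w).symm
        exact ((c1 _).mul_left ((c2 _).symm.mul_right ((Commute.refl x).zpow_zpow i j))).eq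
      obtain ⟨A', hA'n, hA'ab, hMA', hmax'⟩ := exists_maximal_abelian M hMn hMab
      obtain ⟨hC', hZA', hrel', -, -⟩ := facts A' hA'n hA'ab hmax'
      have hMeq : M = A' := by
        refine le_antisymm hMA' (Subgroup.relIndex_eq_one.mp ?_)
        have h1 := Subgroup.relIndex_mul_relIndex Z M A' le_sup_left hMA'
        rw [hrel'] at h1
        refine (hp.out.eq_one_or_self_of_dvd _ ⟨_, h1.symm.trans (mul_comm _ _)⟩).resolve_right ?_
        intro e
        rw [e] at h1
        have h2 : Z.relIndex M = 1 := (mul_eq_right₀ hp.out.ne_zero).mp h1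
        exact hx (Subgroup.relIndex_eq_one.mp h2 (Subgroup.mem_sup_right (Subgroup.mem_zpowers x)))
      have hCx : Subgroup.centralizer ({x} : Set G) = A' := by
        refine le_antisymm (fun y hy => hC' ?_) fun y hy => ?_
        · rw [Subgroup.mem_centralizer_iff]
          intro a ha
          rw [SetLike.mem_coe, ← hMeq] at ha
          obtain ⟨z, hz, u, hu, rfl⟩ := Subgroup.mem_sup_of_normal_left.mp ha
          obtain ⟨i, rfl⟩ := Subgroup.mem_zpowers_iff.mp hu
          have c1 : Commute z y := (Subgroup.mem_center_iff.mp hz y).symm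
          have c2 : Commute x y := (Subgroup.mem_centralizer_singleton_iff.mp hy).symm
          exact (c1.mul_left (c2.zpow_left i)).eq
        · rw [Subgroup.mem_centralizer_singleton_iff]
          exact hA'ab y hy x (hMA' (Subgroup.mem_sup_right (Subgroup.mem_zpowers x)))
      rw [hCx, ← hrel', ← Subgroup.index_mul_card (Z.subgroupOf A')]
      rw [Nat.card_congr (Subgroup.subgroupOfEquivOfLe hZA').toEquiv]
      rfl
    have hk : Nat.card G < p ^ 2 * Nat.card (Cfsg.IrrCharacter G) := by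
      have hsum : Nat.card G = ∑ χ : Cfsg.IrrCharacter G, Cfsg.charDegree (χ : G → ℂ) ^ 2 := by
        have h := CharCore.sum_degree_sq (G := G)
        simp only [apply_one] at h
        exact_mod_cast h.symm
      rw [hsum, Nat.card_eq_fintype_card, ← Finset.card_univ, mul_comm, ← smul_eq_mul,
        ← Finset.sum_const]
      refine Finset.sum_lt_sum (fun χ _ => ?_) ⟨⟨1, CharCore.isIrrCharacter_one⟩, Finset.mem_univ _, ?_⟩
      · rcases hcd χ with h | h <;> rw [h]
        exact Nat.one_le_pow 2 p hp.out.pos |>.trans_eq' (one_pow 2)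
      · rw [degree_of_eq (n := 1) (by simp), one_pow]
        exact Nat.one_lt_pow two_ne_zero hp.out.one_lt
    have hcomm := card_comm_eq_card_conjClasses_mul_card G
    rw [← CharCore.card_irr (G := G)] at hcomm
    have hbound : Nat.card {q : G × G // Commute q.1 q.2} ≤
        Nat.card Z * Nat.card G + Nat.card G * (p * Nat.card Z) := by
      rw [Nat.card_congr (Equiv.subtypeProdEquivSigmaSubtype fun a b : G => Commute a b),
        Nat.card_sigma]
      have hle : ∀ a : G, Nat.card {b : G // Commute a b} ≤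
          (if a ∈ Z then Nat.card G else 0) + p * Nat.card Z := by
        intro a
        split_ifs with ha
        · exact (Finite.card_subtype_le _).trans (Nat.le_add_right _ _)
        · rw [zero_add, ← hcard a ha]
          exact (Nat.card_congr (Equiv.subtypeEquivRight fun b => by
            rw [Subgroup.mem_centralizer_singleton_iff]
            exact ⟨fun h => h.symm, fun h => h.symm⟩)).le
      refine (Finset.sum_le_sum fun a _ => hle a).trans_eq ?_
      rw [Finset.sum_add_distrib, ← Finset.sum_filter, Finset.sum_const, Finset.sum_const,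
        smul_eq_mul, smul_eq_mul, Finset.card_univ, ← Nat.card_eq_fintype_card,
        show (Finset.univ.filter fun a : G => a ∈ Z).card = Nat.card Z by
          rw [Nat.card_eq_fintype_card, ← Fintype.card_subtype]]
    rw [hcomm] at hbound
    have hG' := Z.card_mul_index
    have hlt : Z.index < p ^ 2 + p ^ 3 := by
      have h1 : Nat.card (Cfsg.IrrCharacter G) ≤ Nat.card Z + p * Nat.card Z := by
        refine Nat.le_of_mul_le_mul_right (hbound.trans_eq ?_) (Nat.card_pos (α := G))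
        ring
      have h2 : Nat.card Z * Z.index < Nat.card Z * (p ^ 2 + p ^ 3) := by
        rw [hG']
        refine hk.trans_le ((Nat.mul_le_mul_left _ h1).trans_eq ?_)
        ring
      exact Nat.lt_of_mul_lt_mul_left h2
    have hlt4 : p ^ (t + 1) < p ^ 4 := by
      rw [← hq]
      refine hlt.trans_le ?_
      calc p ^ 2 + p ^ 3 ≤ p ^ 3 + p ^ 3 := Nat.add_le_add_right (Nat.pow_le_pow_right hp.out.pos (by omega)) _
        _ = 2 * p ^ 3 := (two_mul _).symm
        _ ≤ p * p ^ 3 := Nat.mul_le_mul_right _ hp2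
        _ = p ^ 4 := by ring
    have := (Nat.pow_lt_pow_iff_right hp.out.one_lt).mp hlt4
    rw [hq, show t + 1 = 3 by omega]
  · -- the derived group is not central
    obtain ⟨a, ha, haZ⟩ := SetLike.not_le_iff_exists.mp hcl
    have haA := hder ha
    set π := QuotientGroup.mk' Z with hπ
    have hane : π a ≠ 1 := fun h => haZ ((QuotientGroup.eq_one_iff a).mp h)
    have hout : ∀ x : G, x ∉ A → ∃ g : G, ⁅g, x⁆ ∉ Z := by
      intro x hx
      by_contra! hall
      let M := Z ⊔ Subgroup.zpowers x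
      have hMn : M.Normal := by
        refine ⟨fun n hn g => ?_⟩
        obtain ⟨z, hz, u, hu, rfl⟩ := Subgroup.mem_sup_of_normal_left.mp hn
        obtain ⟨i, rfl⟩ := Subgroup.mem_zpowers_iff.mp hu
        have h1 : g * x * g⁻¹ ∈ M := by
          have h2 := M.mul_mem (Subgroup.mem_sup_left (hall g) : _ ∈ M)
            (Subgroup.mem_sup_right (Subgroup.mem_zpowers x))
          simpa [commutatorElement_def] using h2
        rw [show g * (z * x ^ i) * g⁻¹ = (g * z * g⁻¹) * (g * x * g⁻¹) ^ i by rw [conj_zpow]; group]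
        refine M.mul_mem (Subgroup.mem_sup_left ?_) (M.zpow_mem h1 i)
        rw [Subgroup.mem_center_iff.mp hz g, mul_inv_cancel_right]
        exact hz
      have hMab : ∀ a ∈ M, ∀ b ∈ M, a * b = b * a := by
        intro a ha b hb
        obtain ⟨z, hz, u, hu, rfl⟩ := Subgroup.mem_sup_of_normal_left.mp ha
        obtain ⟨z', hz', v, hv, rfl⟩ := Subgroup.mem_sup_of_normal_left.mp hb
        obtain ⟨i, rfl⟩ := Subgroup.mem_zpowers_iff.mp hu
        obtain ⟨j, rfl⟩ := Subgroup.mem_zpowers_iff.mp hv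
        have c1 : ∀ w, Commute z w := fun w => (Subgroup.mem_center_iff.mp hz w).symm
        have c2 : ∀ w, Commute z' w := fun w => (Subgroup.mem_center_iff.mp hz' w).symm
        exact ((c1 _).mul_left ((c2 _).symm.mul_right ((Commute.refl x).zpow_zpow i j))).eq
      obtain ⟨A', hA'n, hA'ab, hMA', hmax'⟩ := exists_maximal_abelian M hMn hMab
      obtain ⟨-, hZA', hrel', hder', -⟩ := facts A' hA'n hA'ab hmax'
      have hAA' : A' = A := by
        let N := Z ⊔ Subgroup.zpowers a
        have hN : ∀ B : Subgroup G, Z ≤ B → a ∈ B → Z.relIndex B = p → B = N := by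
          intro B hZB haB hrB
          have hNB : N ≤ B := sup_le hZB (Subgroup.zpowers_le.mpr haB)
          refine le_antisymm (Subgroup.relIndex_eq_one.mp ?_) hNB
          have h1 := Subgroup.relIndex_mul_relIndex Z N B le_sup_left hNB
          rw [hrB] at h1
          refine (hp.out.eq_one_or_self_of_dvd _ ⟨_, h1.symm.trans (mul_comm _ _)⟩).resolve_right ?_
          intro e
          rw [e] at h1
          have h2 : Z.relIndex N = 1 := (mul_eq_right₀ hp.out.ne_zero).mp h1
          exact haZ (Subgroup.relIndex_eq_one.mp h2 (Subgroup.mem_sup_right (Subgroup.mem_zpowers a)))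
        rw [hN A' hZA' (hder' ha) hrel', hN A hZA haA hrel]
      exact hx (hAA' ▸ hMA' (Subgroup.mem_sup_right (Subgroup.mem_zpowers x)))
    have hAbn : (A.map π).Normal := hAn.map _ (QuotientGroup.mk'_surjective Z)
    have hAbcard : Nat.card (A.map π) = p := by
      rw [← hrel, Subgroup.relIndex,
        show A.map π = (π.comp A.subtype).range by rw [MonoidHom.range_comp, Subgroup.range_subtype],
        ← Subgroup.index_ker]
      congr 1
      ext u
      rw [MonoidHom.mem_ker, MonoidHom.comp_apply, hπ, QuotientGroup.mk'_apply,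
        QuotientGroup.eq_one_iff]
      rfl
    have hAbc : A.map π ≤ Subgroup.center (G ⧸ Z) := by
      have hne : A.map π ≠ ⊥ := fun h => hane (Subgroup.mem_bot.mp (h ▸ ⟨a, haA, rfl⟩))
      have h1 := Fitting.inf_center_ne_bot hne
      rcases hp.out.eq_one_or_self_of_dvd _
        (hAbcard ▸ Subgroup.card_dvd_of_le (inf_le_left : A.map π ⊓ _ ≤ A.map π)) with h | h
      · exact absurd (Subgroup.card_eq_one.mp h) h1
      · have he : A.map π ⊓ Subgroup.center (G ⧸ Z) = A.map π :=
          Subgroup.eq_of_le_of_card_ge inf_le_left (by rw [h, hAbcard])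
        rw [← he]
        exact inf_le_right
    obtain ⟨θ, hθ⟩ : ∃ θ : Cfsg.IrrCharacter (G ⧸ Z), (θ : G ⧸ Z → ℂ) (π a) ≠ (θ : G ⧸ Z → ℂ) 1 := by
      by_contra! h
      exact hane (Ext.eq_one_of_forall_irr h)
    obtain ⟨χ, hχd, hχ⟩ := exists_inflate Z θ
    have hd : Cfsg.charDegree (χ : G → ℂ) = p := (hcd χ).resolve_left fun h1 => hθ (by
      have h2 := apply_eq_of_mem_commutator χ h1 ha
      rw [hχ, hχ, map_one] at h2
      exact h2)
    haveI := Fintype.ofFinite (G ⧸ Z)
    have hθd : (θ : G ⧸ Z → ℂ) 1 = (p : ℂ) := by rw [apply_one θ, ← hχd, hd]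
    have hzero : ∀ x : G, x ∉ A → (χ : G → ℂ) x = 0 := by
      intro x hx
      obtain ⟨g, hg⟩ := hout x hx
      set c := ⁅g, x⁆ with hc
      have hcA : c ∈ A :=
        hder (Subgroup.commutator_mem_commutator (Subgroup.mem_top g) (Subgroup.mem_top x))
      have hcc : π c ∈ Subgroup.center (G ⧸ Z) := hAbc ⟨c, hcA, rfl⟩
      obtain ⟨ω, -, hω⟩ := exists_central_scalar θ hcc
      have h1 : (θ : G ⧸ Z → ℂ) (π c * π x) = (θ : G ⧸ Z → ℂ) (π x) := by
        rw [← map_mul, show c * x = g * x * g⁻¹ by rw [hc, commutatorElement_def]; group, map_mul,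
          map_mul, map_inv]
        exact CharCore.irr_isClassFunction θ (π x) (π g)
      rw [hω] at h1
      rw [hχ]
      by_contra hne
      have hω1 : ω = 1 := (mul_eq_right₀ hne).mp h1
      have hcne : π c ≠ 1 := fun h => hg ((QuotientGroup.eq_one_iff c).mp h)
      have hcgen : (⟨π a, ⟨a, haA, rfl⟩⟩ : A.map π) ∈
          Subgroup.zpowers (⟨π c, ⟨c, hcA, rfl⟩⟩ : A.map π) :=
        mem_zpowers_of_prime_card hAbcard (fun h => hcne (congrArg Subtype.val h))
      obtain ⟨i, hi⟩ := Subgroup.mem_zpowers_iff.mp hcgen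
      apply hθ
      have hi' : π c ^ i = π a := by
        have := congrArg Subtype.val hi; simpa using this
      have hk : π c ∈ CharCore.charKernel (CharCore.irr_isCharacter θ) := by
        show (θ : G ⧸ Z → ℂ) (π c) = (θ : G ⧸ Z → ℂ) 1
        simpa [hω1] using hω 1
      have h2 := Subgroup.zpow_mem _ hk i
      rw [hi'] at h2
      exact h2
    have hh := CharCore.classInner_irr_self χ
    unfold Cfsg.classInner at hh
    have h2 := (inv_mul_eq_one₀ (Nat.cast_ne_zero.mpr Nat.card_pos.ne')).mp hh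
    have hin : ∀ x ∈ A, (χ : G → ℂ) x * conj ((χ : G → ℂ) x) = (p : ℂ) ^ 2 := by
      intro x hx
      obtain ⟨ω, hω1, hω⟩ := exists_central_scalar θ (hAbc ⟨x, hx, rfl⟩)
      have h3 : (θ : G ⧸ Z → ℂ) (π x) = ω * (p : ℂ) := by rw [← hθd]; simpa using hω 1
      rw [hχ, h3, map_mul, map_natCast]
      linear_combination ((p : ℂ) ^ 2) * hω1
    rw [← Finset.sum_filter_add_sum_filter_not Finset.univ (· ∈ A),
      Finset.sum_eq_zero (s := Finset.univ.filter fun x => ¬ x ∈ A)
        (fun x hx => by rw [hzero x (Finset.mem_filter.mp hx).2, zero_mul]), add_zero,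
      Finset.sum_congr rfl (fun x hx => hin x (Finset.mem_filter.mp hx).2), Finset.sum_const,
      nsmul_eq_mul, show (Finset.univ.filter fun x : G => x ∈ A).card = Nat.card A by
        rw [Nat.card_eq_fintype_card, ← Fintype.card_subtype]] at h2
    have h4 : A.index * Nat.card A = Nat.card A * p ^ 2 := by
      rw [A.index_mul_card]; exact_mod_cast h2
    have h5 : A.index = p ^ 2 := Nat.eq_of_mul_eq_mul_right Nat.card_pos (h4.trans (mul_comm _ _))
    rw [ht] at h5
    rw [hq, Nat.pow_right_injective hp2 h5]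

end Cfsg.Agent.CharDeep.Deg
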