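import Cfsg.Agent.CharDeep.Deg.Basic
import Cfsg.Agent.Lib.CharClifford.Clifford
import Cfsg.Agent.Lib.CharCore.ConjAut
import Cfsg.Agent.Lib.Thompson.PSolvable
import Cfsg.Agent.FG78.IndexLemmas

/-! A `p`-solvable group with all degrees prime to `p` has a normal abelian Sylow `p`-subgroup. -/

set_option autoImplicit false

namespace Cfsg.Agent.CharDeep.Deg

universe u

/-- A normal `p`-subgroup is abelian when all degrees are prime to `p`. -/
theorem commute_of_normal_pgroup {G : Type u} [Group G] [Finite G] {p : ℕ} [hp : Fact p.Prime]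
    (hdeg : ∀ χ : Cfsg.IrrCharacter G, ¬ p ∣ Cfsg.charDegree (χ : G → ℂ))
    (P : Subgroup G) [P.Normal] (hP : IsPGroup p P) : ∀ x ∈ P, ∀ y ∈ P, x * y = y * x := by
  intro x hx y hy
  have h1 : ∀ θ : Cfsg.IrrCharacter P, Cfsg.charDegree (θ : P → ℂ) = 1 := fun θ => by
    obtain ⟨χ, hχ⟩ := exists_dvd_of_normal P θ
    obtain ⟨k, hk⟩ := IsPGroup.iff_card.mp hP
    obtain ⟨d, -, hd, h⟩ := CharClifford.exists_degree_dvd_card θ.2
    rw [hk] at hd
    obtain ⟨i, -, hi⟩ := (Nat.dvd_prime_pow hp.out).mp hd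
    rcases Nat.eq_zero_or_pos i with h0 | h0
    · rw [degree_of_eq h, hi, h0, pow_zero]
    · have h2 : p ∣ Cfsg.charDegree (θ : P → ℂ) := by
        rw [degree_of_eq h, hi]; exact dvd_pow_self p h0.ne'
      exact absurd (h2.trans hχ) (hdeg χ)
  exact congrArg Subtype.val (commute_of_degree_one h1 ⟨x, hx⟩ ⟨y, hy⟩)

/-- A `p`-group normalising a normal `p'`-subgroup centralises it when all degrees are prime
to `p`. -/
theorem centralizes_of_degrees {M : Type u} [Group M] [Finite M] {p : ℕ} [hp : Fact p.Prime]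
    (hdeg : ∀ χ : Cfsg.IrrCharacter M, ¬ p ∣ Cfsg.charDegree (χ : M → ℂ))
    (N P : Subgroup M) [hNn : N.Normal] (hN : (Nat.card N).Coprime p) (hP : IsPGroup p P)
    (hNP : N ⊔ P = ⊤) : N ≤ Subgroup.centralizer (P : Set M) := by
  classical
  have := Fintype.ofFinite M
  have := Fintype.ofFinite N
  -- every irreducible character of `N` is invariant under `P`
  have hinv : ∀ (φ : Cfsg.IrrCharacter N), ∀ a ∈ P,
      CharClifford.conjFun N a (φ : N → ℂ) = (φ : N → ℂ) := by
    intro φ a ha
    obtain ⟨χ, hχ⟩ := CharCore.exists_over N φ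
    obtain ⟨θ, e, hθ, he0, -, hres⟩ := CharClifford.clifford_restrict N χ.2
    -- the orbit
    set O := CharClifford.conjOrbit N θ with hO
    have hOmem : ∀ (b : M) (ψ : N → ℂ), ψ ∈ O → CharClifford.conjFun N b ψ ∈ O := by
      intro b ψ hψ
      obtain ⟨x, rfl⟩ := (CharClifford.mem_conjOrbit N).mp hψ
      exact (CharClifford.mem_conjOrbit N).mpr ⟨x * b, (CharClifford.conjFun_conjFun N b x θ).symm⟩
    let act : MulAction P {ψ : N → ℂ // ψ ∈ O} :=
      { smul := fun b ψ => ⟨CharClifford.conjFun N (b : M)⁻¹ ψ, hOmem _ _ ψ.2⟩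
        one_smul := fun ψ => Subtype.ext (show CharClifford.conjFun N ((1 : P) : M)⁻¹ _ = _ by
          rw [OneMemClass.coe_one, inv_one, CharClifford.conjFun_one])
        mul_smul := fun b c ψ => Subtype.ext (show CharClifford.conjFun N ((b * c : P) : M)⁻¹ _ =
            CharClifford.conjFun N (b : M)⁻¹ (CharClifford.conjFun N (c : M)⁻¹ _) by
          rw [CharClifford.conjFun_conjFun, Subgroup.coe_mul, mul_inv_rev]) }
    have hfix : (MulAction.fixedPoints P {ψ : N → ℂ // ψ ∈ O}).Nonempty := by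
      by_contra hne
      rw [Set.not_nonempty_iff_eq_empty] at hne
      have h := hP.card_modEq_card_fixedPoints {ψ : N → ℂ // ψ ∈ O}
      rw [hne, Nat.card_coe_set_eq, Set.ncard_empty] at h
      have hpO : p ∣ O.card := by
        have := Nat.modEq_zero_iff_dvd.mp h
        rwa [Nat.card_eq_fintype_card, Fintype.card_coe] at this
      obtain ⟨d, -, hd⟩ := CharCore.IsIrrCharacter.exists_degree hθ
      have h1 : (χ : M → ℂ) 1 = ((e * (O.card * d) : ℕ) : ℂ) := by
        have h2 := congrFun hres 1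
        simp only [Subgroup.coe_one, Pi.smul_apply, Finset.sum_apply, smul_eq_mul] at h2
        rw [h2]
        have h3 : ∀ ψ ∈ O, ψ 1 = (d : ℂ) := by
          intro ψ hψ
          obtain ⟨x, rfl⟩ := (CharClifford.mem_conjOrbit N).mp hψ
          rw [CharClifford.conjFun_apply, ← hd]
          congr 1
          exact Subtype.ext (by simp)
        rw [Finset.sum_congr rfl h3, Finset.sum_const, nsmul_eq_mul]
        push_cast; ring
      exact hdeg χ (by rw [degree_of_eq h1]; exact Dvd.dvd.mul_left (Dvd.dvd.mul_right hpO d) e)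
    obtain ⟨⟨ψ, hψ⟩, hψfix⟩ := hfix
    have hψa : ∀ b ∈ P, CharClifford.conjFun N b ψ = ψ := by
      intro b hb
      have e2 : CharClifford.conjFun N (b⁻¹)⁻¹ ψ = ψ :=
        congrArg Subtype.val (hψfix ⟨b⁻¹, inv_mem hb⟩)
      rwa [inv_inv] at e2
    -- `φ` is a conjugate of `ψ`, hence equal to it
    obtain ⟨x₀, hx₀⟩ := (CharClifford.mem_conjOrbit N).mp hψ
    have hψirr : Cfsg.IsIrrCharacter N ψ := hx₀ ▸ CharClifford.isIrrCharacter_conjFun N hθ x₀
    have hθχ : Cfsg.classInner (fun h : N => (χ : M → ℂ) h) ψ ≠ 0 := by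
      rw [← hx₀, CharClifford.classInner_restrict_conjFun N (CharCore.irr_isClassFunction χ), hres,
        CharCore.classInner_smul_left, CharCore.classInner_sum_left]
      rw [Finset.sum_eq_single θ]
      · rw [CharCore.classInner_irr_self (⟨θ, hθ⟩ : Cfsg.IrrCharacter N), mul_one]
        exact Nat.cast_ne_zero.mpr he0.ne'
      · intro ψ' hψ' hne'
        obtain ⟨x, rfl⟩ := (CharClifford.mem_conjOrbit N).mp hψ'
        exact CharCore.classInner_irr_of_ne
          (χ := (⟨_, CharClifford.isIrrCharacter_conjFun N hθ x⟩ : Cfsg.IrrCharacter N))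
          (ψ := ⟨θ, hθ⟩) (fun h => hne' (congrArg Subtype.val h))
      · intro hn
        exact absurd ((CharClifford.mem_conjOrbit N).mpr ⟨1, CharClifford.conjFun_one N θ⟩) hn
    obtain ⟨x, hx⟩ := CharClifford.exists_conjFun_eq_of_constituents N χ.2 hψirr φ.2 hθχ hχ
    have hxm : x ∈ N ⊔ P := by rw [hNP]; exact Subgroup.mem_top x
    obtain ⟨n, hn, b, hb, rfl⟩ := Subgroup.mem_sup_of_normal_left.mp hxm
    have hφψ : (φ : N → ℂ) = ψ := by
      rw [hx, ← CharClifford.conjFun_conjFun,
        CharClifford.conjFun_of_mem N (CharCore.irr_isClassFunction ⟨ψ, hψirr⟩) hn]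
      exact hψa b hb
    rw [hφψ]
    exact hψa a ha
  -- each class of `N` is invariant, hence meets the centralizer
  let C := N ⊓ Subgroup.centralizer (P : Set M)
  have hnorm : ∀ s ∈ P, ∀ g ∈ N, s * g * s⁻¹ ∈ N := fun s _ g hg => hNn.conj_mem g hg s
  have := Fintype.ofFinite C
  have hpN : ¬ p ∣ Fintype.card N := by
    rw [← Nat.card_eq_fintype_card]
    exact hp.out.coprime_iff_not_dvd.mp hN.symm
  have hcov : ∀ g : N, ∃ c : N, c * g * c⁻¹ ∈ C.subgroupOf N := by
    intro g
    obtain ⟨c, hc⟩ := CharCore.exists_fixed_isConj (φ := CharCore.conjAut N P hnorm)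
      (ι := Subgroup.inclusion (inf_le_left : C ≤ N))
      (fun x => CharCore.mem_range_inclusion_iff hnorm rfl inf_le_left x) hP
      (by rw [Nat.card_eq_fintype_card]; exact hpN) (g := g) (fun b => by
        rw [CharCore.isConj_iff_forall_irr]
        intro φ
        have h := congrFun (hinv φ b b.2) g
        rw [CharClifford.conjFun_apply] at h
        exact h.symm)
    obtain ⟨d, hd⟩ := isConj_iff.mp hc
    refine ⟨d, ?_⟩
    rw [hd, Subgroup.mem_subgroupOf]
    exact c.2
  have htop := FG78.eq_top_of_conjugates_cover (C.subgroupOf N) hcov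
  rw [Subgroup.subgroupOf_eq_top] at htop
  exact htop.trans inf_le_right

theorem exists_abelian_sylow_pSolvable (p : ℕ) [hp : Fact p.Prime] :
    ∀ (j : ℕ) {G : Type u} [Group G] [Finite G], Nat.card G ≤ j → Cfsg.IsPSolvable p G →
      (∀ χ : Cfsg.IrrCharacter G, ¬ p ∣ Cfsg.charDegree (χ : G → ℂ)) →
      ∃ P : Subgroup G, P.Normal ∧ (∀ x ∈ P, ∀ y ∈ P, x * y = y * x) ∧ IsPGroup p P ∧
        ¬ p ∣ P.index := by
  intro j
  induction j with
  | zero => intro G _ _ h; exact absurd h (not_le_of_gt Nat.card_pos)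
  | succ j ih =>
    intro G _ _ hj hsolv hdeg
    classical
    rcases subsingleton_or_nontrivial G with hs | hs
    · exact ⟨⊥, inferInstance, fun x _ y _ => Subsingleton.elim _ _, IsPGroup.of_bot,
        by rw [Subgroup.index_bot, Nat.card_of_subsingleton (1 : G)]; exact hp.out.not_dvd_one⟩
    obtain ⟨N, hNn, hN0, hN⟩ := Thompson.exists_minimal_step_of_isPSolvable hsolv
    have hlt : Nat.card (G ⧸ N) ≤ j := by
      have h1 : 1 < Nat.card N := (Subgroup.one_lt_card_iff_ne_bot N).mpr hN0
      have h2 := Subgroup.card_eq_card_quotient_mul_card_subgroup N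
      have h4 : 0 < Nat.card (G ⧸ N) := Nat.card_pos
      nlinarith
    obtain ⟨Pb, hPbn, -, hPb, hPbi⟩ := ih hlt (Thompson.isPSolvable_quotient N hsolv)
      (fun θ => by obtain ⟨χ, hχ, -⟩ := exists_inflate N θ; rw [← hχ]; exact hdeg χ)
    set H := Pb.comap (QuotientGroup.mk' N) with hH
    have hHn : H.Normal := hPbn.comap _
    have hHi : H.index = Pb.index :=
      Subgroup.index_comap_of_surjective _ (QuotientGroup.mk'_surjective N)
    have hNH : N ≤ H := fun n hn => by
      rw [hH, Subgroup.mem_comap, QuotientGroup.mk'_apply, (QuotientGroup.eq_one_iff n).mpr hn]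
      exact one_mem _
    suffices hmain : ∃ P : Subgroup G, P.Normal ∧ IsPGroup p P ∧ ¬ p ∣ P.index by
      obtain ⟨P, hPn, hP, hPi⟩ := hmain
      exact ⟨P, hPn, commute_of_normal_pgroup hdeg P hP, hP, hPi⟩
    rcases hN with hN | hN
    · refine ⟨H, hHn, ?_, hHi ▸ hPbi⟩
      exact IsPGroup.comap_of_ker_isPGroup hPb _ (by rw [QuotientGroup.ker_mk']; exact hN)
    · -- the kernel is a `p'`-group
      have hdegH : ∀ θ : Cfsg.IrrCharacter H, ¬ p ∣ Cfsg.charDegree (θ : H → ℂ) := fun θ h => by
        obtain ⟨χ, hχ⟩ := exists_dvd_of_normal H θ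
        exact hdeg χ (h.trans hχ)
      obtain ⟨S⟩ := (Sylow.nonempty : Nonempty (Sylow p H))
      set N' := N.subgroupOf H with hN'
      haveI : N'.Normal := hNn.subgroupOf H
      have hN'c : (Nat.card N').Coprime p := by
        rwa [Nat.card_congr (Subgroup.subgroupOfEquivOfLe hNH).toEquiv]
      obtain ⟨m, hm⟩ := IsPGroup.iff_card.mp hPb
      have hidx : N'.index = p ^ m := by
        have h1 := Subgroup.relIndex_mul_index hNH
        have h2 : N.index = Nat.card (G ⧸ N) := rfl
        have h3 := Pb.card_mul_index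
        rw [hHi] at h1
        rw [hm] at h3
        have h4 : N.relIndex H * Pb.index = p ^ m * Pb.index := by rw [h1, h2, ← h3]
        exact Nat.eq_of_mul_eq_mul_right
          (Nat.pos_of_ne_zero Subgroup.index_ne_zero_of_finite) h4
      have hsup : N' ⊔ (S : Subgroup H) = ⊤ := by
        rw [← Subgroup.index_eq_one]
        have h1 : (N' ⊔ (S : Subgroup H)).index ∣ p ^ m :=
          hidx ▸ Subgroup.index_dvd_of_le le_sup_left
        have h2 : (N' ⊔ (S : Subgroup H)).index ∣ (S : Subgroup H).index :=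
          Subgroup.index_dvd_of_le le_sup_right
        exact Nat.eq_one_of_dvd_coprimes
          (Nat.Coprime.pow_left m (hp.out.coprime_iff_not_dvd.mpr S.not_dvd_index)) h1 h2
      have hcent := centralizes_of_degrees hdegH N' S hN'c S.isPGroup' hsup
      haveI hSn : (S : Subgroup H).Normal := by
        rw [← Subgroup.normalizer_eq_top_iff, eq_top_iff, ← hsup]
        refine sup_le (fun n hn => Subgroup.centralizer_le_normalizer _ (hcent hn))
          Subgroup.le_normalizer
      haveI : (S : Subgroup H).Characteristic := S.characteristic_of_normal inferInstance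
      refine ⟨(S : Subgroup H).map H.subtype, inferInstance, S.isPGroup'.map _, ?_⟩
      rw [Subgroup.index_map_subtype]
      intro h
      rcases hp.out.dvd_mul.mp h with h' | h'
      · exact S.not_dvd_index h'
      · exact hPbi (hHi ▸ h')

end Cfsg.Agent.CharDeep.Deg
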