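import Mathlib.GroupTheory.Sylow
import Mathlib.GroupTheory.Abelianization.Defs
import Mathlib.GroupTheory.PGroup

/-! Elementary facts about a self-centralizing element of prime order. -/

namespace Cfsg.Agent.CharDeep.Deg

open scoped commutatorElement

variable {G : Type*} [Group G] [Finite G] {p : ℕ} [hp : Fact p.Prime] {x : G}
  (hx : orderOf x = p) (hC : Subgroup.centralizer ({x} : Set G) = Subgroup.zpowers x)

include hx in
theorem card_zpowers_eq : Nat.card (Subgroup.zpowers x) = p := by rw [Nat.card_zpowers, hx]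

include hx hC in
theorem sylow_eq_zpowers (Q : Sylow p G) (hQ : Subgroup.zpowers x ≤ Q) :
    (Q : Subgroup G) = Subgroup.zpowers x := by
  have hx1 : x ≠ 1 := fun h => hp.out.one_lt.ne' (by rw [← hx, h, orderOf_one])
  have hxQ : x ∈ (Q : Subgroup G) := hQ (Subgroup.mem_zpowers x)
  haveI : Nontrivial (Q : Subgroup G) := ⟨⟨⟨x, hxQ⟩, 1, fun h => hx1 (congrArg Subtype.val h)⟩⟩
  haveI := Q.isPGroup'.center_nontrivial
  obtain ⟨⟨z, hz⟩, hz1⟩ := exists_ne (1 : Subgroup.center (Q : Subgroup G))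
  have hzC : (z : G) ∈ Subgroup.zpowers x := by
    rw [← hC, Subgroup.mem_centralizer_singleton_iff]
    exact (congrArg Subtype.val (Subgroup.mem_center_iff.mp hz ⟨x, hxQ⟩)).symm
  have hgen : Subgroup.zpowers (z : G) = Subgroup.zpowers x := by
    refine Subgroup.eq_of_le_of_card_ge (Subgroup.zpowers_le.mpr hzC) ?_
    rw [card_zpowers_eq hx, Nat.card_zpowers]
    have hd : orderOf (z : G) ∣ p :=
      dvd_trans (Subgroup.orderOf_dvd_natCard _ hzC) (card_zpowers_eq hx).dvd
    rcases (Nat.dvd_prime hp.out).mp hd with h | h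
    · exact absurd (orderOf_eq_one_iff.mp h) fun e => hz1 (Subtype.ext (Subtype.ext e))
    · exact h.ge
  refine le_antisymm (fun y hy => ?_) hQ
  rw [← hC, Subgroup.mem_centralizer_singleton_iff]
  obtain ⟨k, hk⟩ := Subgroup.mem_zpowers_iff.mp (hgen ▸ Subgroup.mem_zpowers x)
  have hyz : Commute y (z : G) := congrArg Subtype.val (Subgroup.mem_center_iff.mp hz ⟨y, hy⟩)
  rw [← hk]
  exact hyz.zpow_right k

include hx hC in
theorem exists_sylow_eq : ∃ Q : Sylow p G, (Q : Subgroup G) = Subgroup.zpowers x := by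
  obtain ⟨Q, hQ⟩ := (IsPGroup.of_card (n := 1) (by rw [card_zpowers_eq hx, pow_one]) :
    IsPGroup p (Subgroup.zpowers x)).exists_le_sylow
  exact ⟨Q, sylow_eq_zpowers hx hC Q hQ⟩

include hx hC in
theorem exists_conj_zpowers {H : Subgroup G} (hH : Nat.card H = p) :
    ∃ g : G, ∀ y, y ∈ H ↔ g * y * g⁻¹ ∈ Subgroup.zpowers x := by
  obtain ⟨Q, hQ⟩ := exists_sylow_eq hx hC
  obtain ⟨R, hR⟩ := (IsPGroup.of_card (n := 1) (by rw [hH, pow_one]) :
    IsPGroup p H).exists_le_sylow
  have hcard : Nat.card (R : Subgroup G) = p := by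
    rw [Sylow.card_eq_multiplicity, ← Q.card_eq_multiplicity, hQ, card_zpowers_eq hx]
  have hRH : (R : Subgroup G) = H :=
    (Subgroup.eq_of_le_of_card_ge hR (by rw [hcard, hH])).symm
  obtain ⟨g, hg⟩ := MulAction.exists_smul_eq G R Q
  refine ⟨g, fun y => ?_⟩
  rw [← hQ, ← hg, Sylow.coe_subgroup_smul, Subgroup.mem_pointwise_smul_iff_inv_smul_mem]
  simp [hRH, MulAut.smul_def, mul_assoc]

include hx hC in
theorem commutator_le_of_dvd (S : Subgroup G) [hS : S.Normal] (hp' : p ∣ Nat.card S) :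
    commutator G ≤ S := by
  classical
  obtain ⟨Q, hQ⟩ := exists_sylow_eq hx hC
  obtain ⟨y, hy⟩ := exists_prime_orderOf_dvd_card' p hp'
  obtain ⟨g, hg⟩ := exists_conj_zpowers hx hC
    (H := Subgroup.zpowers (y : G)) (by rw [Nat.card_zpowers, Subgroup.orderOf_coe, hy])
  have hxS : Subgroup.zpowers x ≤ S := by
    intro z hz
    have h1 : g⁻¹ * z * g ∈ Subgroup.zpowers (y : G) := (hg _).mpr (by simpa [mul_assoc] using hz)
    have h2 := hS.conj_mem _ (Subgroup.zpowers_le.mpr y.2 h1) g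
    simpa [mul_assoc] using h2
  have hfrat : ∀ a : G, ∃ n ∈ Subgroup.normalizer ((Subgroup.zpowers x : Subgroup G) : Set G),
      a * n⁻¹ ∈ S := by
    intro a
    have h := Sylow.normalizer_sup_eq_top' Q (N := S) (hQ ▸ hxS)
    have ha : a ∈ S ⊔ Subgroup.normalizer ((Subgroup.zpowers x : Subgroup G) : Set G) := by
      rw [← hQ, sup_comm]
      exact (SetLike.ext_iff.mp h a).mpr (Subgroup.mem_top a)
    obtain ⟨s, hs, n, hn, rfl⟩ := Subgroup.mem_sup_of_normal_left.mp ha
    exact ⟨n, hn, by simpa using hs⟩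
  rw [commutator_def, Subgroup.commutator_le]
  intro a _ b _
  obtain ⟨m, hm, hma⟩ := hfrat a
  obtain ⟨n, hn, hnb⟩ := hfrat b
  have hex : ∀ c ∈ Subgroup.normalizer ((Subgroup.zpowers x : Subgroup G) : Set G),
      ∃ k : ℤ, c * x * c⁻¹ = x ^ k := fun c hc => by
    obtain ⟨k, hk⟩ := Subgroup.mem_zpowers_iff.mp
      ((Subgroup.mem_normalizer_iff.mp hc x).mp (Subgroup.mem_zpowers x))
    exact ⟨k, hk.symm⟩
  obtain ⟨i, hi⟩ := hex m hm
  obtain ⟨j, hj⟩ := hex n hn
  have hmn : ⁅m, n⁆ ∈ S := by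
    refine hxS (hC ▸ ?_)
    rw [Subgroup.mem_centralizer_singleton_iff]
    have e : (m * n) * x * (m * n)⁻¹ = (n * m) * x * (n * m)⁻¹ := by
      rw [show (m * n) * x * (m * n)⁻¹ = m * (n * x * n⁻¹) * m⁻¹ by group, hj, ← conj_zpow, hi,
        show (n * m) * x * (n * m)⁻¹ = n * (m * x * m⁻¹) * n⁻¹ by group, hi, ← conj_zpow, hj,
        ← zpow_mul, ← zpow_mul, mul_comm i j]
    have e2 : (n * m)⁻¹ * (m * n) * x = x * ((n * m)⁻¹ * (m * n)) := by
      calc (n * m)⁻¹ * (m * n) * x = (n * m)⁻¹ * ((m * n) * x * (m * n)⁻¹) * (m * n) := by group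
        _ = x * ((n * m)⁻¹ * (m * n)) := by rw [e]; group
    rw [commutatorElement_def]
    -- transfer from `(n m)⁻¹ (m n)` to `[m, n]`, its conjugate by an element of the normalizer
    have e3 : Commute ((n * m) * ((n * m)⁻¹ * (m * n)) * (n * m)⁻¹) ((n * m) * x * (n * m)⁻¹) :=
      (show Commute ((n * m)⁻¹ * (m * n)) x from e2).conj (n * m)
    rw [show (n * m) * ((n * m)⁻¹ * (m * n)) * (n * m)⁻¹ = m * n * m⁻¹ * n⁻¹ by group,
      show (n * m) * x * (n * m)⁻¹ = x ^ (i * j) by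
        rw [show (n * m) * x * (n * m)⁻¹ = n * (m * x * m⁻¹) * n⁻¹ by group, hi, ← conj_zpow, hj,
          ← zpow_mul, mul_comm]] at e3
    have hij : Subgroup.zpowers (x ^ (i * j)) = Subgroup.zpowers x := by
      refine Subgroup.eq_of_le_of_card_ge (Subgroup.zpowers_le.mpr
        (Subgroup.zpow_mem _ (Subgroup.mem_zpowers x) _)) ?_
      rw [Nat.card_zpowers, Nat.card_zpowers, show x ^ (i * j) = MulAut.conj (n * m) x by
          rw [MulAut.conj_apply,
            show (n * m) * x * (n * m)⁻¹ = n * (m * x * m⁻¹) * n⁻¹ by group, hi, ← conj_zpow, hj,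
            ← zpow_mul, mul_comm],
        MulEquiv.orderOf_eq]
    obtain ⟨t, ht⟩ := Subgroup.mem_zpowers_iff.mp (hij ▸ Subgroup.mem_zpowers x)
    rw [← ht]
    exact e3.zpow_right t
  rw [← QuotientGroup.eq_one_iff, ← QuotientGroup.mk'_apply, map_commutatorElement,
    show QuotientGroup.mk' S a = QuotientGroup.mk' S m from ?_,
    show QuotientGroup.mk' S b = QuotientGroup.mk' S n from ?_, ← map_commutatorElement,
    QuotientGroup.mk'_apply, QuotientGroup.eq_one_iff]
  · exact hmn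
  · rw [← div_eq_one, ← map_div, QuotientGroup.mk'_apply, QuotientGroup.eq_one_iff,
      div_eq_mul_inv]
    exact hnb
  · rw [← div_eq_one, ← map_div, QuotientGroup.mk'_apply, QuotientGroup.eq_one_iff,
      div_eq_mul_inv]
    exact hma

include hx hC in
theorem inf_normalizer_eq_bot (S : Subgroup G) [hS : S.Normal] (hp' : ¬ p ∣ Nat.card S) :
    S ⊓ Subgroup.normalizer ((Subgroup.zpowers x : Subgroup G) : Set G) = ⊥ := by
  have hd : S ⊓ Subgroup.zpowers x = ⊥ := Subgroup.inf_eq_bot_of_coprime (by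
    rw [card_zpowers_eq hx]; exact (hp.out.coprime_iff_not_dvd.mpr hp').symm)
  rw [eq_bot_iff]
  rintro n ⟨hnS, hnN⟩
  have h1 : n * x * n⁻¹ * x⁻¹ ∈ S := by
    rw [show n * x * n⁻¹ * x⁻¹ = n * (x * n⁻¹ * x⁻¹) by group]
    exact S.mul_mem hnS (hS.conj_mem _ (S.inv_mem hnS) x)
  have h2 : n * x * n⁻¹ * x⁻¹ ∈ Subgroup.zpowers x :=
    Subgroup.mul_mem _ ((Subgroup.mem_normalizer_iff.mp hnN x).mp (Subgroup.mem_zpowers x))
      (Subgroup.inv_mem _ (Subgroup.mem_zpowers x))
  have h3 : n * x * n⁻¹ * x⁻¹ = 1 := Subgroup.mem_bot.mp (hd ▸ ⟨h1, h2⟩)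
  rw [mul_inv_eq_one, mul_inv_eq_iff_eq_mul] at h3
  have h4 : n ∈ Subgroup.zpowers x := hC ▸ Subgroup.mem_centralizer_singleton_iff.mpr h3
  exact hd ▸ ⟨hnS, h4⟩

include hx hC in
theorem card_dvd_card_sylow (S : Subgroup G) [S.Normal] (hp' : ¬ p ∣ Nat.card S) :
    Nat.card S ∣ Nat.card {H : Subgroup G // Nat.card H = p} := by
  obtain ⟨Q, hQ⟩ := exists_sylow_eq hx hC
  have hT : Nat.card {H : Subgroup G // Nat.card H = p} =
      (Subgroup.normalizer ((Subgroup.zpowers x : Subgroup G) : Set G)).index := by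
    rw [← hQ]
    refine Eq.trans ?_ Q.card_eq_index_normalizer
    refine Nat.card_congr (Equiv.ofBijective
      (fun R : Sylow p G => (⟨(R : Subgroup G), by
        rw [R.card_eq_multiplicity, ← Q.card_eq_multiplicity, hQ, card_zpowers_eq hx]⟩ :
        {H : Subgroup G // Nat.card H = p})) ⟨fun A B h => Sylow.ext (congrArg Subtype.val h),
          fun H => ?_⟩).symm
    obtain ⟨R, hR⟩ := (IsPGroup.of_card (n := 1) (by rw [H.2, pow_one]) :
      IsPGroup p H.1).exists_le_sylow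
    refine ⟨R, Subtype.ext (Subgroup.eq_of_le_of_card_ge hR ?_).symm⟩
    rw [H.2, R.card_eq_multiplicity, ← Q.card_eq_multiplicity, hQ, card_zpowers_eq hx]
  rw [hT]
  set N := Subgroup.normalizer ((Subgroup.zpowers x : Subgroup G) : Set G) with hN
  have hinj : Function.Injective ((QuotientGroup.mk' S).comp N.subtype) := by
    rw [injective_iff_map_eq_one]
    intro n hn
    have h : (n : G) ∈ S := (QuotientGroup.eq_one_iff _).mp hn
    exact Subtype.ext (Subgroup.mem_bot.mp (inf_normalizer_eq_bot hx hC S hp' ▸ ⟨h, n.2⟩))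
  have hd : Nat.card N * Nat.card S ∣ Nat.card G := by
    rw [Subgroup.card_eq_card_quotient_mul_card_subgroup S]
    exact Nat.mul_dvd_mul_right (Subgroup.card_dvd_of_injective _ hinj) _
  rw [← N.card_mul_index] at hd
  exact Nat.dvd_of_mul_dvd_mul_left Nat.card_pos hd

include hx hC in
theorem coset_fixed (S : Subgroup G) [hS : S.Normal] (hp' : ¬ p ∣ Nat.card S) (g : G)
    (hg : QuotientGroup.mk' S (x * g * x⁻¹) = QuotientGroup.mk' S g) :
    (QuotientGroup.mk' S g) ∈ Subgroup.zpowers (QuotientGroup.mk' S x) ∧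
      (g ∈ S → Nat.card S % p = 1) := by
  classical
  let P := Subgroup.zpowers x
  have hmem : ∀ a : P, ∀ y : {y : G // QuotientGroup.mk' S y = QuotientGroup.mk' S g},
      QuotientGroup.mk' S ((a : G) * (y : G) * (a : G)⁻¹) = QuotientGroup.mk' S g := by
    intro a y
    have hc : Commute (QuotientGroup.mk' S x) (QuotientGroup.mk' S g) := by
      have h := hg
      rw [map_mul, map_mul, map_inv, mul_inv_eq_iff_eq_mul] at h
      exact h
    obtain ⟨k, hk⟩ := Subgroup.mem_zpowers_iff.mp a.2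
    rw [map_mul, map_mul, map_inv, y.2, ← hk, map_zpow, (hc.zpow_left k).eq, mul_inv_cancel_right]
  letI : MulAction P {y : G // QuotientGroup.mk' S y = QuotientGroup.mk' S g} :=
    { smul := fun a y => ⟨(a : G) * (y : G) * (a : G)⁻¹, hmem a y⟩
      one_smul := fun y => Subtype.ext (by show (1 : G) * y * (1 : G)⁻¹ = y; group)
      mul_smul := fun a b y => Subtype.ext (by
        show (a * b : G) * y * (a * b : G)⁻¹ = a * (b * y * (b : G)⁻¹) * (a : G)⁻¹; group) }
  have hcard : Nat.card {y : G // QuotientGroup.mk' S y = QuotientGroup.mk' S g} = Nat.card S := by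
    refine Nat.card_congr
      { toFun := fun y => ⟨g⁻¹ * y.1, QuotientGroup.eq.mp y.2.symm⟩
        invFun := fun s => ⟨g * s.1, by simp⟩
        left_inv := fun y => Subtype.ext (by simp)
        right_inv := fun s => Subtype.ext (by simp) }
  have hP : IsPGroup p P := IsPGroup.of_card (n := 1) (by rw [card_zpowers_eq hx, pow_one])
  have hmod := hP.card_modEq_card_fixedPoints
    {y : G // QuotientGroup.mk' S y = QuotientGroup.mk' S g}
  have hfix : ∀ y ∈ MulAction.fixedPoints P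
      {y : G // QuotientGroup.mk' S y = QuotientGroup.mk' S g}, y.1 ∈ P := by
    intro y hy
    have h := congrArg Subtype.val (hy ⟨x, Subgroup.mem_zpowers x⟩)
    change x * y.1 * x⁻¹ = y.1 at h
    rw [mul_inv_eq_iff_eq_mul] at h
    show y.1 ∈ Subgroup.zpowers x
    exact hC ▸ Subgroup.mem_centralizer_singleton_iff.mpr h.symm
  have hne : (MulAction.fixedPoints P
      {y : G // QuotientGroup.mk' S y = QuotientGroup.mk' S g}).Nonempty := by
    by_contra h
    rw [Set.not_nonempty_iff_eq_empty] at h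
    rw [h, hcard, Nat.card_coe_set_eq, Set.ncard_empty, Nat.modEq_zero_iff_dvd] at hmod
    exact hp' hmod
  obtain ⟨y, hy⟩ := hne
  refine ⟨?_, fun hgS => ?_⟩
  · obtain ⟨k, hk⟩ := Subgroup.mem_zpowers_iff.mp (hfix y hy)
    rw [← y.2, ← hk, map_zpow]
    exact Subgroup.zpow_mem _ (Subgroup.mem_zpowers _) _
  · have hsub : ∀ z ∈ MulAction.fixedPoints P
        {y : G // QuotientGroup.mk' S y = QuotientGroup.mk' S g}, z.1 = 1 := fun z hz => by
      have hzS : z.1 ∈ S :=
        (QuotientGroup.eq_one_iff _).mp (z.2.trans ((QuotientGroup.eq_one_iff _).mpr hgS))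
      have hd : S ⊓ Subgroup.zpowers x = ⊥ := Subgroup.inf_eq_bot_of_coprime (by
        rw [card_zpowers_eq hx]; exact (hp.out.coprime_iff_not_dvd.mpr hp').symm)
      exact Subgroup.mem_bot.mp (hd ▸ ⟨hzS, hfix z hz⟩)
    have h1 : Nat.card (MulAction.fixedPoints P
        {y : G // QuotientGroup.mk' S y = QuotientGroup.mk' S g}) = 1 := by
      refine Nat.card_eq_one_iff_unique.mpr ⟨⟨fun a b => Subtype.ext (Subtype.ext ?_)⟩, ⟨y, hy⟩⟩
      rw [hsub _ a.2, hsub _ b.2]
    rw [h1, hcard] at hmod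
    rw [hmod]
    exact Nat.mod_eq_of_lt hp.out.one_lt

end Cfsg.Agent.CharDeep.Deg
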