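import Cfsg.Agent.CharDeep.Deg.Basic
import Cfsg.Agent.Coherence.SeqInd
import Cfsg.Agent.CharDeep.Tools
import Mathlib.GroupTheory.Sylow

/-! Characters over a supplement of a kernel: larger degree, smaller kernel. -/

namespace Cfsg.Agent.CharDeep.Deg

open scoped ComplexConjugate

universe u

variable {G : Type u} [Group G] [Fintype G]

/-- A character trivial on `K` restricts irreducibly to a supplement of `K`. -/
theorem restrict_irr_of_supplement (χ : Cfsg.IrrCharacter G) (K H : Subgroup G) [Fintype H]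
    (hK : ∀ k ∈ K, (χ : G → ℂ) k = (χ : G → ℂ) 1) (hG : ∀ g : G, ∃ k ∈ K, ∃ h ∈ H, g = k * h) :
    Cfsg.IsIrrCharacter H (fun h : H => (χ : G → ℂ) h) := by
  classical
  have := Fintype.ofFinite K
  rw [CharCore.isIrrCharacter_iff]
  refine ⟨CharCore.isCharacter_restrict (CharCore.irr_isCharacter χ) H, ?_⟩
  let F : G → ℂ := fun g => (χ : G → ℂ) g * conj ((χ : G → ℂ) g)
  have hKF : ∀ (k : K) (h : H), F ((k : G) * h) = F h := fun k h => by
    have := CharDeep.mem_transKer_of_apply_eq (CharCore.irr_isCharacter χ) (hK k k.2) (h : G)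
    simp only [F, this]
  obtain ⟨c, hc⟩ : ∃ c : ℕ, ∀ g : G,
      (Finset.univ.filter fun z : K × H => (z.1 : G) * z.2 = g).card = c := by
    refine ⟨(Finset.univ.filter fun z : K × H => (z.1 : G) * z.2 = 1).card, fun g => ?_⟩
    obtain ⟨k, hk, h, hh, rfl⟩ := hG g
    refine Finset.card_bij' (fun z _ => (⟨k, hk⟩⁻¹ * z.1, z.2 * ⟨h, hh⟩⁻¹))
      (fun z _ => (⟨k, hk⟩ * z.1, z.2 * ⟨h, hh⟩)) ?_ ?_ ?_ ?_
    · intro z hz
      simp only [Finset.mem_filter, Finset.mem_univ, true_and] at hz ⊢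
      simp only [Subgroup.coe_mul, InvMemClass.coe_inv]
      rw [show k⁻¹ * (z.1 : G) * ((z.2 : G) * h⁻¹) = k⁻¹ * ((z.1 : G) * z.2) * h⁻¹ by group, hz]
      group
    · intro z hz
      simp only [Finset.mem_filter, Finset.mem_univ, true_and] at hz ⊢
      simp only [Subgroup.coe_mul]
      rw [show k * (z.1 : G) * ((z.2 : G) * h) = k * ((z.1 : G) * z.2) * h by group, hz, mul_one]
    · intro z _; simp
    · intro z _; simp
  have key : ∀ f : G → ℂ, ∑ z : K × H, f ((z.1 : G) * z.2) = (c : ℂ) * ∑ g, f g := fun f => by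
    rw [← Finset.sum_fiberwise Finset.univ (fun z : K × H => (z.1 : G) * z.2), Finset.mul_sum]
    refine Finset.sum_congr rfl fun g _ => ?_
    rw [Finset.sum_congr rfl fun z hz => congrArg f (Finset.mem_filter.mp hz).2, Finset.sum_const,
      hc, nsmul_eq_mul]
  have h1 := key F
  have h2 := key (fun _ => 1)
  have hself := CharCore.classInner_irr_self χ
  unfold Cfsg.classInner at hself ⊢
  rw [inv_mul_eq_one₀ (Nat.cast_ne_zero.mpr Nat.card_pos.ne')] at hself ⊢
  simp only [Fintype.sum_prod_type, hKF, Finset.sum_const, Finset.card_univ, nsmul_eq_mul,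
    mul_one] at h1 h2
  simp only [← Nat.card_eq_fintype_card] at h1 h2
  change (Nat.card G : ℂ) = ∑ g, F g at hself
  rw [← hself, ← h2, Nat.card_prod, Nat.cast_mul] at h1
  exact (mul_left_cancel₀ (Nat.cast_ne_zero.mpr (Nat.card_pos (α := K)).ne') h1).symm

/-- A character with an irreducible constituent of at least its degree is that constituent. -/
theorem eq_or_degree_lt {H : Type u} [Group H] [Fintype H] {φ : H → ℂ}
    (hφ : Cfsg.IsCharacter H φ) (θ : Cfsg.IrrCharacter H)
    (hne : Cfsg.classInner φ (θ : H → ℂ) ≠ 0) {a b : ℕ} (ha : (θ : H → ℂ) 1 = a)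
    (hb : φ 1 = b) : φ = θ ∨ a < b := by
  classical
  obtain ⟨m, hm⟩ := CharCore.IsCharacter.exists_sum hφ
  choose d hd0 hd using fun ψ : Cfsg.IrrCharacter H => CharCore.IsIrrCharacter.exists_degree ψ.2
  have hm0 : 0 < m θ := Nat.pos_of_ne_zero fun h => hne (by
    rw [hm, CharCore.classInner_sum_all, h, Nat.cast_zero])
  have hsum : b = ∑ ψ, m ψ * d ψ := by
    have h := congrFun hm 1
    simp only [Finset.sum_apply, Pi.smul_apply, smul_eq_mul, hd, hb] at h
    exact_mod_cast h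
  have hθd : d θ = a := by have := hd θ; rw [ha] at this; exact_mod_cast this.symm
  rw [← Finset.add_sum_erase _ _ (Finset.mem_univ θ), hθd] at hsum
  by_cases hlt : a < b
  · exact Or.inr hlt
  left
  have ha1 : a ≤ m θ * a := Nat.le_mul_of_pos_left a hm0
  have hrest : ∑ ψ ∈ Finset.univ.erase θ, m ψ * d ψ = 0 := by omega
  have hmθ : m θ = 1 := by
    have h3 : m θ * a = 1 * a := by omega
    exact Nat.eq_of_mul_eq_mul_right (hθd ▸ hd0 θ) h3
  rw [hm, Finset.sum_eq_single θ (fun ψ hψ hne' => ?_) (by simp), hmθ, Nat.cast_one, one_smul]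
  have := (Finset.sum_eq_zero_iff.mp hrest) ψ (Finset.mem_erase.mpr ⟨hne', hψ⟩)
  rcases mul_eq_zero.mp this with h | h
  · simp [h]
  · exact absurd h (hd0 ψ).ne'

theorem exists_larger (χ : Cfsg.IrrCharacter G) (K M : Subgroup G) [hKn : K.Normal]
    [hMn : M.Normal] (hKM : K ≤ M)
    (hker : ∀ g : G, g ∈ K ↔ (χ : G → ℂ) g = (χ : G → ℂ) 1)
    (q : ℕ) [hq : Fact q.Prime] (hqM : ∀ m ∈ M, ∃ j : ℕ, m ^ q ^ j ∈ K) (Q : Subgroup G)
    (hQM : Q ≤ M) (hQ : IsPGroup q Q) (hQi : ¬ q ∣ Q.relIndex M) (hQn : ¬ Q.Normal)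
    (hG : ∀ g : G, ∃ k ∈ K, ∃ h ∈ Subgroup.normalizer (Q : Set G), g = k * h)
    (hMV : M ≤ Subgroup.closure {g : G | (χ : G → ℂ) g ≠ 0}) :
    ∃ ψ : Cfsg.IrrCharacter G, Cfsg.charDegree (χ : G → ℂ) < Cfsg.charDegree (ψ : G → ℂ) ∧
      ∃ L : Subgroup G, (∀ g : G, g ∈ L ↔ (ψ : G → ℂ) g = (ψ : G → ℂ) 1) ∧ L < K := by
  classical
  set H := Subgroup.normalizer (Q : Set G) with hH
  have := Fintype.ofFinite H
  have hQH : Q ≤ H := Subgroup.le_normalizer
  -- Sylow subgroups of subgroups between `Q` and `M`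
  have hmax : ∀ R : Subgroup G, R ≤ M → IsPGroup q R → Q ≤ R → R ≤ Q := by
    intro R hRM hR hQR
    by_contra hne
    have h1 : Q.relIndex R ∣ Q.relIndex M := by
      rw [← Subgroup.relIndex_mul_relIndex Q R M hQR hRM]; exact dvd_mul_right _ _
    obtain ⟨n, hn⟩ := hR.index (Q.subgroupOf R)
    rcases Nat.eq_zero_or_pos n with h0 | h0
    · rw [h0, pow_zero] at hn
      exact hne (Subgroup.relIndex_eq_one.mp hn)
    · have h2 : q ∣ Q.relIndex R := by
        rw [Subgroup.relIndex, hn]; exact dvd_pow_self q h0.ne'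
      exact hQi (h2.trans h1)
  set θ : Cfsg.IrrCharacter H := ⟨fun h : H => (χ : G → ℂ) h,
    restrict_irr_of_supplement χ K H (fun k hk => (hker k).mp hk) hG⟩ with hθ
  have hθapply : ∀ h : H, (θ : H → ℂ) h = (χ : G → ℂ) h := fun _ => rfl
  set d := Cfsg.charDegree (χ : G → ℂ) with hd
  have hd1 : (θ : H → ℂ) 1 = d := by rw [hθapply, OneMemClass.coe_one, apply_one χ]
  by_cases hcase : ∃ ψ : Cfsg.IrrCharacter G, d < Cfsg.charDegree (ψ : G → ℂ) ∧
      Cfsg.classInner (fun h : H => (ψ : G → ℂ) h) (θ : H → ℂ) ≠ 0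
  · obtain ⟨ψ, hlt, hne⟩ := hcase
    refine ⟨ψ, hlt, CharDeep.transKer (ψ : G → ℂ), fun g =>
      ⟨CharDeep.apply_eq_one_of_mem_transKer,
        CharDeep.mem_transKer_of_apply_eq (CharCore.irr_isCharacter ψ)⟩, ?_⟩
    set L := CharDeep.transKer (ψ : G → ℂ) with hL
    have hLn : L.Normal := CharDeep.transKer_normal (CharCore.irr_isClassFunction ψ)
    have hLH : ∀ x ∈ L, x ∈ H → x ∈ K := by
      intro x hxL hxH
      have h := Coherence.constituent_apply_eq
        (CharCore.isCharacter_restrict (CharCore.irr_isCharacter ψ) H) (b := ⟨x, hxH⟩)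
        (by simpa using CharDeep.apply_eq_one_of_mem_transKer hxL) θ hne
      rw [hθapply, hθapply] at h
      exact (hker x).mpr h
    have hLM : ∀ x ∈ L, x ∈ M → x ∈ K := by
      intro x hxL hxM
      obtain ⟨e, r, hr, her⟩ := Nat.exists_eq_pow_mul_and_not_dvd (orderOf_pos x).ne' q
        hq.out.ne_one
      have hpow1 : x ^ q ^ e ∈ K := by
        obtain ⟨j, hj⟩ := hqM _ (pow_mem hxM (q ^ e))
        have h1 : (x ^ q ^ e) ^ r = 1 := by rw [← pow_mul, ← her, pow_orderOf_eq_one]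
        have hcop : Nat.Coprime (q ^ j) r :=
          Nat.Coprime.pow_left j (hq.out.coprime_iff_not_dvd.mpr hr)
        obtain ⟨a, b, hab⟩ : ∃ a b : ℤ, (q ^ j : ℕ) * a + (r : ℤ) * b = 1 :=
          ⟨_, _, by rw [← Nat.gcd_eq_gcd_ab, hcop.gcd_eq_one]; rfl⟩
        rw [← zpow_one (x ^ q ^ e), ← hab, zpow_add, zpow_mul, zpow_mul, zpow_natCast,
          zpow_natCast, h1, one_zpow, mul_one]
        exact K.zpow_mem hj a
      have hpow2 : x ^ r ∈ K := by
        let S : Sylow q M := IsPGroup.toSylow (P := Q.subgroupOf M)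
          (hQ.of_equiv (Subgroup.subgroupOfEquivOfLe hQM).symm) hQi
        have hxr : IsPGroup q (Subgroup.zpowers (⟨x ^ r, pow_mem hxM r⟩ : M)) := by
          obtain ⟨i, -, hi⟩ := (Nat.dvd_prime_pow hq.out).mp
            (orderOf_dvd_of_pow_eq_one (x := (⟨x ^ r, pow_mem hxM r⟩ : M)) (n := q ^ e)
              (Subtype.ext (by
                rw [SubmonoidClass.coe_pow, ← pow_mul, mul_comm, ← her, pow_orderOf_eq_one]; rfl)))
          exact IsPGroup.of_card (n := i) (by rw [Nat.card_zpowers, hi])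
        obtain ⟨T, hT⟩ := hxr.exists_le_sylow
        obtain ⟨m, hm⟩ := MulAction.exists_smul_eq M T S
        have hmem : m * (⟨x ^ r, pow_mem hxM r⟩ : M) * m⁻¹ ∈ (S : Subgroup M) := by
          rw [← hm, Sylow.coe_subgroup_smul, Subgroup.mem_pointwise_smul_iff_inv_smul_mem]
          simpa [MulAut.smul_def, mul_assoc] using hT (Subgroup.mem_zpowers _)
        have hmemQ : (m : G) * x ^ r * (m : G)⁻¹ ∈ Q := Subgroup.mem_subgroupOf.mp hmem
        have h3 := hLH _ (hLn.conj_mem _ (pow_mem hxL r) m) (hQH hmemQ)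
        have h4 := hKn.conj_mem _ h3 (m : G)⁻¹
        simpa [mul_assoc] using h4
      have hcop : Nat.Coprime (q ^ e) r :=
        Nat.Coprime.pow_left e (hq.out.coprime_iff_not_dvd.mpr hr)
      obtain ⟨a, b, hab⟩ : ∃ a b : ℤ, (q ^ e : ℕ) * a + (r : ℤ) * b = 1 :=
        ⟨_, _, by rw [← Nat.gcd_eq_gcd_ab, hcop.gcd_eq_one]; rfl⟩
      rw [← zpow_one x, ← hab, zpow_add, zpow_mul, zpow_mul, zpow_natCast, zpow_natCast]
      exact K.mul_mem (K.zpow_mem hpow1 a) (K.zpow_mem hpow2 b)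
    have hLK : L ≤ K := by
      intro l hl
      let J := L ⊓ M ⊔ Q
      have hJM : J ≤ M := sup_le inf_le_right hQM
      have hQJ : Q ≤ J := le_sup_right
      have hconj : ∀ y ∈ Q, l * y * l⁻¹ ∈ J := by
        intro y hy
        have h1 : l * y * l⁻¹ * y⁻¹ ∈ L ⊓ M := by
          refine ⟨?_, M.mul_mem (hMn.conj_mem _ (hQM hy) l) (M.inv_mem (hQM hy))⟩
          rw [show l * y * l⁻¹ * y⁻¹ = l * (y * l⁻¹ * y⁻¹) by group]
          exact L.mul_mem hl (hLn.conj_mem _ (L.inv_mem hl) y)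
        have h2 := J.mul_mem (Subgroup.mem_sup_left h1 : _ ∈ J) (hQJ hy)
        simpa using h2
      have hQiJ : ¬ q ∣ Q.relIndex J := fun h => hQi
        (h.trans (by rw [← Subgroup.relIndex_mul_relIndex Q J M hQJ hJM]; exact dvd_mul_right _ _))
      let S : Sylow q J := IsPGroup.toSylow (P := Q.subgroupOf J)
        (hQ.of_equiv (Subgroup.subgroupOfEquivOfLe hQJ).symm) hQiJ
      let Ql := Q.map (MulAut.conj l).toMonoidHom
      have hQlJ : Ql ≤ J := by rintro _ ⟨y, hy, rfl⟩; exact hconj y hy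
      obtain ⟨T, hT⟩ := ((hQ.map (MulAut.conj l).toMonoidHom).of_equiv
        (Subgroup.subgroupOfEquivOfLe hQlJ).symm).exists_le_sylow
      obtain ⟨j, hj⟩ := MulAction.exists_smul_eq J T S
      have hjl : (j : G) * l ∈ H := by
        rw [hH, Subgroup.mem_normalizer_iff_map_conj_eq]
        refine Subgroup.eq_of_le_of_card_ge ?_ ?_
        · rintro _ ⟨y, hy, rfl⟩
          have hy' : (⟨l * y * l⁻¹, hconj y hy⟩ : J) ∈ (T : Subgroup J) :=
            hT (Subgroup.mem_subgroupOf.mpr ⟨y, hy, rfl⟩)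
          have hy2 : j * (⟨l * y * l⁻¹, hconj y hy⟩ : J) * j⁻¹ ∈ (S : Subgroup J) := by
            rw [← hj, Sylow.coe_subgroup_smul, Subgroup.mem_pointwise_smul_iff_inv_smul_mem]
            simpa [MulAut.smul_def, mul_assoc] using hy'
          have hy3 : (j : G) * (l * y * l⁻¹) * (j : G)⁻¹ ∈ Q := Subgroup.mem_subgroupOf.mp hy2
          simpa [mul_assoc] using hy3
        · exact (Nat.card_congr
            (Q.equivMapOfInjective _ (MulAut.conj ((j : G) * l)).injective).toEquiv).le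
      obtain ⟨a, ha, b, hb, hab⟩ := Subgroup.mem_sup_of_normal_left.mp j.2
      have hbl : b * l ∈ Q ⊔ L := (Q ⊔ L).mul_mem (Subgroup.mem_sup_left hb) (Subgroup.mem_sup_right hl)
      have hl' : b⁻¹ * (a⁻¹ * ((j : G) * l)) = l := by rw [← hab]; group
      -- `j l = a (b l)` with `a ∈ L ⊓ M` and `b ∈ Q`
      have haK : a ∈ K := hLM a ha.1 ha.2
      have h5 : (j : G) * l * b⁻¹ ∈ H := H.mul_mem hjl (H.inv_mem (hQH hb))
      have h6 : (j : G) * l * b⁻¹ ∈ L := by
        rw [← hab, show a * b * l * b⁻¹ = a * (b * l * b⁻¹) by group]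
        exact L.mul_mem ha.1 (hLn.conj_mem l hl b)
      have h7 := hLH _ h6 h5
      rw [← hab, show a * b * l * b⁻¹ = a * (b * l * b⁻¹) by group] at h7
      have h8 : b * l * b⁻¹ ∈ K := by
        have := K.mul_mem (K.inv_mem haK) h7
        simpa using this
      have h9 := hKn.conj_mem _ h8 b⁻¹
      simpa [mul_assoc] using h9
    refine lt_of_le_of_ne hLK fun hLK' => ?_
    have hirr := restrict_irr_of_supplement ψ K H
      (fun k hk => CharDeep.apply_eq_one_of_mem_transKer (by rw [← hL, hLK']; exact hk)) hG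
    have heq : (⟨fun h : H => (ψ : G → ℂ) h, hirr⟩ : Cfsg.IrrCharacter H) = θ := by
      by_contra hne'
      exact hne (CharCore.classInner_irr_of_ne hne')
    have h1 : (ψ : G → ℂ) 1 = (d : ℂ) := by
      rw [← hd1, ← heq]
      rfl
    rw [degree_of_eq h1] at hlt
    exact lt_irrefl _ hlt
  · exfalso
    push Not at hcase
    have hres : ∀ ψ : Cfsg.IrrCharacter G,
        Cfsg.classInner (fun h : H => (ψ : G → ℂ) h) (θ : H → ℂ) ≠ 0 →
          ∀ h : H, (ψ : G → ℂ) h = (θ : H → ℂ) h := by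
      intro ψ hne h
      rcases eq_or_degree_lt (CharCore.isCharacter_restrict (CharCore.irr_isCharacter ψ) H) θ hne
        hd1 (b := Cfsg.charDegree (ψ : G → ℂ)) (by rw [OneMemClass.coe_one, apply_one ψ]) with h' | h'
      · exact congrFun h' h
      · exact absurd (hcase ψ h') hne
    have hind := CharCore.IsCharacter.eq_sum_classInner
      (CharInd.isCharacter_indFun H (CharCore.irr_isCharacter θ))
    obtain ⟨c, hc⟩ : ∃ c : ℂ, ∀ h : H, Cfsg.indFun H (θ : H → ℂ) h = c * (θ : H → ℂ) h := by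
      refine ⟨∑ ψ : Cfsg.IrrCharacter G, Cfsg.classInner (Cfsg.indFun H (θ : H → ℂ)) (ψ : G → ℂ),
        fun h => ?_⟩
      rw [Finset.sum_mul]
      conv_lhs => rw [hind]
      rw [Finset.sum_apply]
      refine Finset.sum_congr rfl fun ψ _ => ?_
      simp only [Pi.smul_apply, smul_eq_mul]
      by_cases h0 : Cfsg.classInner (Cfsg.indFun H (θ : H → ℂ)) (ψ : G → ℂ) = 0
      · rw [h0, zero_mul, zero_mul]
      rw [hres ψ (fun h' => h0 (by
        rw [← CharCore.conj_classInner, CharInd.classInner_indFun_right H _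
          (CharCore.irr_isClassFunction ψ), h', map_zero])) h]
    have hc1 : c = (H.index : ℂ) := by
      have h := hc 1
      rw [OneMemClass.coe_one, CharInd.indFun_apply_one] at h
      exact (mul_right_cancel₀ (CharCore.irr_apply_one_ne_zero θ) h).symm
    let C := H.normalCore
    have hnz : ∀ h : H, (θ : H → ℂ) h ≠ 0 → (h : G) ∈ C := by
      intro h hh x
      have hind' := hc h
      rw [hc1, CharInd.indFun_apply] at hind'
      have hterm : ∀ y : G, Cfsg.extendByZero H (θ : H → ℂ) (y⁻¹ * (h : G) * y) =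
          if y⁻¹ * (h : G) * y ∈ H then (θ : H → ℂ) h else 0 := by
        intro y
        split_ifs with hy
        · rw [CharInd.extendByZero_mem _ hy, hθapply, hθapply]
          simpa [inv_inv] using CharCore.irr_isClassFunction χ (h : G) y⁻¹
        · exact CharInd.extendByZero_notMem _ hy
      simp only [hterm, ← Finset.sum_filter, Finset.sum_const, nsmul_eq_mul] at hind'
      have hcount : (Finset.univ.filter fun y : G => y⁻¹ * (h : G) * y ∈ H).card = Nat.card G := by
        have h1 : ((Finset.univ.filter fun y : G => y⁻¹ * (h : G) * y ∈ H).card : ℂ) =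
            (Nat.card G : ℂ) := by
          rw [← H.index_mul_card, Nat.cast_mul]
          rw [← mul_assoc] at hind'
          have h2 := mul_right_cancel₀ hh hind'
          rwa [inv_mul_eq_iff_eq_mul₀ (CharInd.natCard_subgroup_ne_zero H), mul_comm (Nat.card H : ℂ)]
            at h2
        exact_mod_cast h1
      rw [Nat.card_eq_fintype_card, ← Finset.card_univ] at hcount
      have hall := Finset.card_filter_eq_iff.mp hcount x⁻¹ (Finset.mem_univ _)
      simpa using hall
    have hCH : C ≤ H := H.normalCore_le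
    have hVC : Subgroup.closure {g : G | (χ : G → ℂ) g ≠ 0} ≤ K ⊔ C := by
      rw [Subgroup.closure_le]
      intro g hg
      obtain ⟨k, hk, h, hh, rfl⟩ := hG g
      refine Subgroup.mul_mem_sup hk (hnz ⟨h, hh⟩ ?_)
      rw [hθapply]
      simpa [CharDeep.mem_transKer_of_apply_eq (CharCore.irr_isCharacter χ) ((hker k).mp hk) h]
        using hg
    have hKHC : ∀ k ∈ K, k ∈ H → k ∈ C := fun k hk hkH => hnz ⟨k, hkH⟩ (by
      rw [hθapply, (hker k).mp hk]; exact CharCore.irr_apply_one_ne_zero χ)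
    have hQC : Q ≤ C := by
      intro y hy
      obtain ⟨k, hk, c', hc', rfl⟩ :=
        Subgroup.mem_sup_of_normal_left.mp (hVC (hMV (hQM hy)))
      refine C.mul_mem (hKHC k hk ?_) hc'
      have := H.mul_mem (hQH hy) (H.inv_mem (hCH hc'))
      simpa using this
    refine hQn ⟨fun y hy g => ?_⟩
    let Qg := Q.map (MulAut.conj g).toMonoidHom
    have hQgH : Qg ≤ H := by
      rintro _ ⟨z, hz, rfl⟩
      exact hCH ((Subgroup.normalCore_normal H).conj_mem _ (hQC hz) g)
    have hQgM : Qg ≤ M := by rintro _ ⟨z, hz, rfl⟩; exact hMn.conj_mem _ (hQM hz) g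
    have hp := IsPGroup.to_sup_of_normal_right' (hQ.map (MulAut.conj g).toMonoidHom) hQ hQgH
    exact hmax _ (sup_le hQgM hQM) hp le_sup_right (Subgroup.mem_sup_left ⟨y, hy, rfl⟩)

end Cfsg.Agent.CharDeep.Deg
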