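import Cfsg.Agent.CharDeep.Deg.TwoDeg
import Cfsg.Agent.S0176
import Mathlib.GroupTheory.Nilpotent

/-! The structure of groups with two character degrees, and their derived length. -/

namespace Cfsg.Agent.CharDeep.Deg

open scoped commutatorElement

universe u

variable {G : Type u} [Group G] [Fintype G]

theorem eq_of_forall_hom (B : Subgroup G) (hab : ∀ a ∈ B, ∀ b ∈ B, a * b = b * a) {x y : B}
    (h : ∀ l : B →* ℂˣ, l x = l y) : x = y := by
  refine mul_inv_eq_one.mp (Ext.eq_one_of_forall_irr fun θ => ?_)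
  obtain ⟨d, -, hd, -, hd1⟩ := TIFrob.exists_degree_dvd θ
  rw [hd1 (fun a b => Subtype.ext (hab a a.2 b b.2)), Nat.cast_one] at hd
  obtain ⟨f, hf⟩ := CharCore.IsCharacter.exists_hom_of_degree_one (CharCore.irr_isCharacter θ) hd
  simp [hf, h f]

variable {m : ℕ} (hcd : ∀ χ : Cfsg.IrrCharacter G,
  Cfsg.charDegree (χ : G → ℂ) = 1 ∨ Cfsg.charDegree (χ : G → ℂ) = m)

include hcd in
theorem exists_normal_complements (s : Finset ℕ) (hs : ∀ q ∈ s, q.Prime ∧ q ∣ m) :
    ∃ B : Subgroup G, B.Normal ∧ (∀ q ∈ s, ¬ q ∣ Nat.card B) ∧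
      (∀ q : ℕ, q.Prime → q ∣ B.index → q ∈ s) ∧
      ((∀ q ∈ s, ¬ ∃ e, m = q ^ e) → commutator G ≤ B) := by
  classical
  induction s using Finset.induction_on with
  | empty =>
    exact ⟨⊤, inferInstance, by simp, fun q hq h => absurd (Subgroup.index_top (G := G) ▸ h) hq.not_dvd_one,
      fun _ => le_top⟩
  | insert q s hqs ih =>
    obtain ⟨B, hBn, hB1, hB2, hB3⟩ := ih (fun r hr => hs r (Finset.mem_insert_of_mem hr))
    obtain ⟨hq, hqm⟩ := hs q (Finset.mem_insert_self q s)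
    obtain ⟨N, hNn, hN1, k, hk⟩ := Cfsg.Agent.S4456.result q hq
      (fun χ h => ((hcd χ).resolve_left h) ▸ hqm : ∀ χ : Cfsg.IrrCharacter G,
        Cfsg.charDegree (χ : G → ℂ) ≠ 1 → q ∣ Cfsg.charDegree (χ : G → ℂ))
    refine ⟨N ⊓ B, inferInstance, fun r hr h => ?_, fun r hr h => ?_, fun hno => le_inf ?_ ?_⟩
    · rcases Finset.mem_insert.mp hr with rfl | hr
      · exact (hq.coprime_iff_not_dvd.mp hN1.symm) (h.trans (Subgroup.card_dvd_of_le inf_le_left))
      · exact hB1 r hr (h.trans (Subgroup.card_dvd_of_le inf_le_right))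
    · rw [← Subgroup.relIndex_mul_index (inf_le_right : N ⊓ B ≤ B), Subgroup.inf_relIndex_right] at h
      rcases hr.dvd_mul.mp h with h | h
      · have h1 : r ∣ q ^ k := hk ▸ h.trans (Subgroup.relIndex_dvd_index_of_normal N B)
        rw [(Nat.prime_dvd_prime_iff_eq hr hq).mp (hr.dvd_of_dvd_pow h1)]
        exact Finset.mem_insert_self _ _
      · exact Finset.mem_insert_of_mem (hB2 r hr h)
    · have hab : ∀ a b : G ⧸ N, a * b = b * a := commute_of_degree_one fun θ => by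
        obtain ⟨χ, hχ, -⟩ := exists_inflate N θ
        rcases hcd χ with h | h
        · rw [← hχ, h]
        · exfalso
          obtain ⟨d, -, hd, hdvd, -⟩ := TIFrob.exists_degree_dvd θ
          rw [← degree_of_eq hd, ← hχ, h, ← Subgroup.index_eq_card, hk] at hdvd
          obtain ⟨i, -, hi⟩ := (Nat.dvd_prime_pow hq).mp hdvd
          exact hno q (Finset.mem_insert_self _ _) ⟨i, hi⟩
      rw [commutator_def, Subgroup.commutator_le]
      intro a _ b _
      rw [← QuotientGroup.eq_one_iff, ← QuotientGroup.mk'_apply, map_commutatorElement,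
        commutatorElement_eq_one_iff_mul_comm]
      exact hab _ _
    · exact hB3 fun r hr => hno r (Finset.mem_insert_of_mem hr)

include hcd in
theorem two_degree_structure (hm : ∃ χ : Cfsg.IrrCharacter G, Cfsg.charDegree (χ : G → ℂ) = m)
    (hm1 : m ≠ 1) :
    (∃ A : Subgroup G, A.Normal ∧ (∀ a ∈ A, ∀ b ∈ A, a * b = b * a) ∧ A.index = m ∧
      commutator G ≤ A) ∨
    ∃ (p e : ℕ) (B : Subgroup G), p.Prime ∧ m = p ^ e ∧ B.Normal ∧ B ≤ Subgroup.center G ∧
      ¬ p ∣ Nat.card B ∧ ∃ k : ℕ, B.index = p ^ k := by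
  classical
  have hm0 : m ≠ 0 := by
    rintro rfl
    obtain ⟨χ, hχ⟩ := hm
    exact (degree_pos χ).ne' hχ
  obtain ⟨B, hBn, hB1, hB2, hB3⟩ := exists_normal_complements hcd m.primeFactors
    (fun q hq => ⟨Nat.prime_of_mem_primeFactors hq, Nat.dvd_of_mem_primeFactors hq⟩)
  have := Fintype.ofFinite B
  have hcopm : Nat.Coprime (Nat.card B) m := Nat.coprime_of_dvd fun q hq h1 h2 =>
    hB1 q (Nat.mem_primeFactors.mpr ⟨hq, h2, hm0⟩) h1
  have hcop : Nat.Coprime (Nat.card B) B.index := Nat.coprime_of_dvd fun q hq h1 h2 =>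
    hB1 q (hB2 q hq h2) h1
  have hab : ∀ a ∈ B, ∀ b ∈ B, a * b = b * a := by
    intro a ha b hb
    refine congrArg Subtype.val (commute_of_degree_one (G := B) (fun θ => ?_) ⟨a, ha⟩ ⟨b, hb⟩)
    obtain ⟨χ, hχ⟩ := exists_dvd_of_normal B θ
    obtain ⟨d, -, hd, hdvd, -⟩ := TIFrob.exists_degree_dvd θ
    rw [degree_of_eq hd] at hχ ⊢
    rcases hcd χ with h | h
    · exact Nat.dvd_one.mp (h ▸ hχ)
    · exact Nat.eq_one_of_dvd_coprimes hcopm hdvd (h ▸ hχ)
  by_cases hmove : ∃ l : B →* ℂˣ, stab B l ≠ ⊤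
  · obtain ⟨l, hl⟩ := hmove
    exact Or.inl (exists_abelian_index hcd B hab hcop l hl)
  push Not at hmove
  have hcent : B ≤ Subgroup.center G := by
    intro b hb
    rw [Subgroup.mem_center_iff]
    intro g
    have h := congrArg Subtype.val (eq_of_forall_hom B hab
      (x := MulAut.conjNormal g ⟨b, hb⟩) (y := ⟨b, hb⟩)
      fun l => mem_stab.mp (hmove l ▸ Subgroup.mem_top g : g ∈ stab B l) _)
    rw [MulAut.conjNormal_apply, mul_inv_eq_iff_eq_mul] at h
    exact h
  by_cases hpow : ∃ p e : ℕ, p.Prime ∧ m = p ^ e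
  · obtain ⟨p, e, hp, rfl⟩ := hpow
    have he : e ≠ 0 := fun h => hm1 (by rw [h, pow_zero])
    refine Or.inr ⟨p, e, B, hp, rfl, hBn, hcent, fun h => ?_, B.index.primeFactorsList.length,
      Nat.eq_prime_pow_of_unique_prime_dvd Subgroup.index_ne_zero_of_finite
        (fun {d} hd hdvd => (Nat.prime_dvd_prime_iff_eq hd hp).mp
          (hd.dvd_of_dvd_pow (Nat.dvd_of_mem_primeFactors (hB2 d hd hdvd))))⟩
    exact hB1 p (Nat.mem_primeFactors.mpr ⟨hp, dvd_pow_self p he, hm0⟩) h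
  exfalso
  push Not at hpow
  have hder := hB3 fun q hq ⟨e, he⟩ => hpow q e (Nat.prime_of_mem_primeFactors hq) he
  have habG : ∀ x y : G, x * y = y * x := by
    intro x y
    set c := y * x * y⁻¹ * x⁻¹ with hc
    have hcB : c ∈ B := hder (Subgroup.commutator_mem_commutator (Subgroup.mem_top y) (Subgroup.mem_top x))
    have hcc : Commute c x := (Subgroup.mem_center_iff.mp (hcent hcB) x).symm
    have hxk : Commute y (x ^ B.index) :=
      Subgroup.mem_center_iff.mp (hcent (B.pow_index_mem x)) y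
    have h1 : c ^ B.index * x ^ B.index = x ^ B.index := by
      rw [← hcc.mul_pow, show c * x = y * x * y⁻¹ by rw [hc]; group, conj_pow, hxk.eq,
        mul_inv_cancel_right]
    have h2 : c ^ Nat.card B = 1 := by
      show ((⟨c, hcB⟩ : B) : G) ^ Nat.card B = 1
      rw [← SubmonoidClass.coe_pow, pow_card_eq_one']
      rfl
    have h3 := pow_gcd_eq_one.mpr ⟨h2, (mul_eq_right.mp h1 : c ^ B.index = 1)⟩
    rw [hcop.gcd_eq_one, pow_one, hc, mul_inv_eq_one, mul_inv_eq_iff_eq_mul] at h3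
    exact h3.symm
  obtain ⟨χ, hχ⟩ := hm
  obtain ⟨d, -, hd, -, hd1⟩ := TIFrob.exists_degree_dvd χ
  exact hm1 (hχ.symm.trans ((degree_of_eq hd).trans (hd1 habG)))

include hcd in
theorem derived_commute (hm : ∃ χ : Cfsg.IrrCharacter G, Cfsg.charDegree (χ : G → ℂ) = m)
    (hm1 : m ≠ 1) : ∀ a ∈ commutator G, ∀ b ∈ commutator G, a * b = b * a := by
  classical
  rcases two_degree_structure hcd hm hm1 with ⟨A, -, hab, -, hle⟩ | ⟨p, e, B, hp, -, hBn, hBc, -, k, hk⟩
  · exact fun a ha b hb => hab a (hle ha) b (hle hb)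
  haveI := Fact.mk hp
  haveI : Group.IsNilpotent (G ⧸ B) :=
    (IsPGroup.of_card (n := k) (by rw [← Subgroup.index_eq_card, hk]) : IsPGroup p (G ⧸ B)).isNilpotent
  haveI : Group.IsNilpotent G :=
    isNilpotent_of_ker_le_center (QuotientGroup.mk' B) (by rwa [QuotientGroup.ker_mk'])
  intro a ha b hb
  rw [← commutatorElement_eq_one_iff_mul_comm]
  refine Ext.eq_one_of_forall_irr fun χ => ?_
  rcases hcd χ with h | h
  · exact apply_eq_of_mem_commutator χ h
      (Subgroup.commutator_mem_commutator (Subgroup.mem_top a) (Subgroup.mem_top b))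
  obtain ⟨H, lam, hlam⟩ := Cfsg.Agent.S0176.result (χ : G → ℂ) χ.2
  have hH : H.index = m := by
    rw [← h]
    refine (degree_of_eq ?_).symm
    rw [hlam, CharInd.indFun_apply_one]
    simp
  have hle := commutator_le_of_index hcd H hH
  have hn : (commutator G).Normal := inferInstance
  rw [hlam, CharInd.indFun_apply, CharInd.indFun_apply]
  congr 1
  refine Finset.sum_congr rfl fun y _ => ?_
  have e1 : y⁻¹ * ⁅a, b⁆ * y = ⁅y⁻¹ * a * y, y⁻¹ * b * y⁆ := by
    simp only [commutatorElement_def]; group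
  have ha' : y⁻¹ * a * y ∈ H := hle (by simpa using hn.conj_mem a ha y⁻¹)
  have hb' : y⁻¹ * b * y ∈ H := hle (by simpa using hn.conj_mem b hb y⁻¹)
  have e2 : y⁻¹ * ⁅a, b⁆ * y = ((⁅(⟨_, ha'⟩ : H), (⟨_, hb'⟩ : H)⁆ : H) : G) := e1
  rw [e2, CharInd.extendByZero_coe, show y⁻¹ * 1 * y = ((1 : H) : G) by simp,
    CharInd.extendByZero_coe, map_commutatorElement, map_one,
    commutatorElement_eq_one_iff_mul_comm.mpr (mul_comm _ _)]

end Cfsg.Agent.CharDeep.Deg
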