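import Cfsg.Agent.CharDeep.Deg.Basic
import Cfsg.Agent.CharDeep.Ext.ClassBound

/-! Zeros of an irreducible character. -/

namespace Cfsg.Agent.CharDeep.Deg

open scoped ComplexConjugate

universe u

variable {G : Type u} [Group G] [Fintype G]

theorem zeros_bound (χ : Cfsg.IrrCharacter G) {d : ℕ} (hd0 : 0 < d)
    (hd : (χ : G → ℂ) 1 = d) :
    ∀ Z O Z0 : Finset G, (∀ g, g ∈ Z ↔ ‖(χ : G → ℂ) g‖ = (d : ℝ)) →
      (∀ g, g ∈ Z0 ↔ (χ : G → ℂ) g = 0) → (∀ g, g ∈ O ↔ g ∉ Z ∧ g ∉ Z0) →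
      (d ^ 2 - 1) * Z.card ≤ Z0.card ∧
        ((∀ g : G, ‖(χ : G → ℂ) g‖ = 0 ∨ ‖(χ : G → ℂ) g‖ = 1 ∨ ‖(χ : G → ℂ) g‖ = (d : ℝ)) →
          (d ^ 2 - 1) * Z.card = Z0.card) := by
  classical
  intro Z O Z0 hZ hZ0 hO
  let f : G → ℝ := fun g => Complex.normSq ((χ : G → ℂ) g)
  have hf : ∀ g, ((f g : ℝ) : ℂ) = (χ : G → ℂ) g * (χ : G → ℂ) g⁻¹ := fun g => by
    rw [CharCore.irr_apply_inv, Complex.mul_conj]
  have hfpos : ∀ g ∈ O, 0 < f g := fun g hg =>
    Complex.normSq_pos.mpr fun h => ((hO g).mp hg).2 ((hZ0 g).mpr h)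
  have hdR : (0 : ℝ) < d := Nat.cast_pos.mpr hd0
  have hnorm : ∀ g, ‖(χ : G → ℂ) g‖ = (d : ℝ) ↔ f g = (d : ℝ) ^ 2 := fun g => by
    rw [show f g = ‖(χ : G → ℂ) g‖ ^ 2 from Complex.normSq_eq_norm_sq _]
    constructor
    · intro h; rw [h]
    · intro h; exact (sq_eq_sq₀ (norm_nonneg _) hdR.le).mp h
  have hprod : 1 ≤ ∏ g ∈ O, f g := by
    obtain ⟨k, hk⟩ := CharClifford.exists_int_of_fixed (z := ((∏ g ∈ O, f g : ℝ) : ℂ))
      (by
        rw [Complex.ofReal_prod]
        refine IsIntegral.prod _ fun g _ => ?_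
        rw [hf]
        exact (CharCore.IsCharacter.isIntegral (CharCore.irr_isCharacter χ) _).mul
          (CharCore.IsCharacter.isIntegral (CharCore.irr_isCharacter χ) _))
      (by
        intro σ
        obtain ⟨m, hm, hσ⟩ := CharClifford.exists_coprime_map_isCharacter
          (CharCore.irr_isCharacter χ) σ
        have hval : ∀ g, σ ((f g : ℝ) : ℂ) = ((f (g ^ m) : ℝ) : ℂ) := fun g => by
          rw [hf, hf, map_mul, hσ, hσ, inv_pow]
        rw [Complex.ofReal_prod, map_prod]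
        let e : G ≃ G := powCoprime hm.symm
        refine Finset.prod_bij (fun g _ => e g) (fun g hg => ?_) (fun a _ b _ h => e.injective h)
          (fun b hb => ⟨e.symm b, ?_, e.apply_symm_apply b⟩) (fun g _ => hval g)
        all_goals
          have key : ∀ g : G, (e g ∈ O ↔ g ∈ O) := fun g => by
            have h0 : (χ : G → ℂ) (g ^ m) = 0 ↔ (χ : G → ℂ) g = 0 := by
              rw [← hσ g, map_eq_zero]
            have h1 : f (g ^ m) = (d : ℝ) ^ 2 ↔ f g = (d : ℝ) ^ 2 := by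
              have hc : σ (((d : ℝ) ^ 2 : ℝ) : ℂ) = (((d : ℝ) ^ 2 : ℝ) : ℂ) := by
                push_cast
                rw [map_pow, map_natCast]
              rw [← Complex.ofReal_inj, ← Complex.ofReal_inj (z := f g), ← hval g]
              exact ⟨fun h => σ.injective (h.trans hc.symm), fun h => by rw [h, hc]⟩
            change g ^ m ∈ O ↔ g ∈ O
            rw [hO, hO, hZ, hZ, hZ0, hZ0, hnorm, hnorm, h0, h1]
        · exact (key g).mpr hg
        · rw [← key, e.apply_symm_apply]; exact hb)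
    have hk' : (∏ g ∈ O, f g) = (k : ℝ) := by exact_mod_cast hk
    have hpos : 0 < (k : ℝ) := hk' ▸ Finset.prod_pos hfpos
    rw [hk']
    have : (0 : ℤ) < k := by exact_mod_cast hpos
    exact_mod_cast (show (1 : ℤ) ≤ k by omega)
  obtain ⟨hle, -⟩ := Ext.card_le_sum_of_one_le_prod O f hfpos hprod
  have htot : ∑ g, f g = (Fintype.card G : ℝ) := by
    have h := CharCore.classInner_irr_self χ
    unfold Cfsg.classInner at h
    have h2 := (inv_mul_eq_one₀ (Nat.cast_ne_zero.mpr Nat.card_pos.ne')).mp h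
    simp only [Complex.mul_conj] at h2
    rw [Nat.card_eq_fintype_card] at h2
    exact_mod_cast h2.symm
  have hdisj : Disjoint Z Z0 := Finset.disjoint_left.mpr fun g hg hg0 => by
    have h1 := (hZ g).mp hg
    rw [(hZ0 g).mp hg0, norm_zero] at h1
    exact hdR.ne h1
  have hOeq : O = Finset.univ \ (Z ∪ Z0) := by
    ext g; simp [hO g]
  have hsplit : ∑ g, f g = (d : ℝ) ^ 2 * Z.card + ∑ g ∈ O, f g := by
    have h0 : ∑ g ∈ Z0, f g = 0 := Finset.sum_eq_zero fun g hg => by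
      simp only [f, (hZ0 g).mp hg, map_zero]
    have h1 : ∑ g ∈ Z, f g = (d : ℝ) ^ 2 * Z.card := by
      rw [Finset.sum_congr rfl fun g hg => (hnorm g).mp ((hZ g).mp hg), Finset.sum_const,
        nsmul_eq_mul, mul_comm]
    rw [← Finset.sum_sdiff (Finset.subset_univ (Z ∪ Z0)), ← hOeq, Finset.sum_union hdisj, h0, h1]
    ring
  have hcard : Fintype.card G = Z.card + Z0.card + O.card := by
    rw [← Finset.card_union_of_disjoint hdisj, hOeq, add_comm,
      Finset.card_sdiff_add_card_eq_card (Finset.subset_univ _), Finset.card_univ]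
  rw [htot, hcard] at hsplit
  push_cast at hsplit
  have hd2 : 1 ≤ d ^ 2 := Nat.one_le_pow _ _ hd0
  refine ⟨?_, fun hall => ?_⟩
  · rw [← Nat.cast_le (α := ℝ)]
    push_cast [Nat.cast_sub hd2]
    linarith
  · have h1 : ∀ g ∈ O, f g = 1 := fun g hg => by
      rw [show f g = ‖(χ : G → ℂ) g‖ ^ 2 from Complex.normSq_eq_norm_sq _]
      rcases hall g with h | h | h
      · exact absurd ((hZ0 g).mpr (norm_eq_zero.mp h)) ((hO g).mp hg).2
      · rw [h, one_pow]
      · exact absurd ((hZ g).mpr h) ((hO g).mp hg).1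
    rw [Finset.sum_congr rfl h1, Finset.sum_const, nsmul_eq_mul, mul_one] at hsplit
    rw [← Nat.cast_inj (R := ℝ)]
    push_cast [Nat.cast_sub hd2]
    linarith

end Cfsg.Agent.CharDeep.Deg
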